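import Mathlib
import Groth.Prelude.Def_W4c2invhilbsl2HJ

/-!
Facts about Hirzebruch–Jung digits of `b/t`.
-/

namespace Groth.Agent.InvHilbLead

open W4c2invhilbsl2

/-- `R_i = t P_i - b Q_i` -/
def hjR (b t : ℤ) (c : List ℤ) (i : ℕ) : ℤ := t * hjP c i - b * hjQ c i

theorem hjR_zero (b t : ℤ) (c : List ℤ) : hjR b t c 0 = b := by simp [hjR, hjP, hjQ]
theorem hjR_one (b t : ℤ) (c : List ℤ) : hjR b t c 1 = t := by simp [hjR, hjP, hjQ]
theorem hjR_rec (b t : ℤ) (c : List ℤ) (i : ℕ) :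
    hjR b t c (i + 2) = c.getD i 0 * hjR b t c (i + 1) - hjR b t c i := by
  simp only [hjR, hjP, hjQ]; ring

theorem hjDet (c : List ℤ) : ∀ i, hjP c (i + 1) * hjQ c i - hjP c i * hjQ c (i + 1) = -1
  | 0 => by simp [hjP, hjQ]
  | i + 1 => by
    have := hjDet c i
    simp only [hjP, hjQ]
    linarith

theorem mono_of_rec (c : List ℤ) (hc : ∀ x ∈ c, (2 : ℤ) ≤ x) (x : ℕ → ℤ)
    (hx : ∀ i, i < c.length → x (i + 2) = c.getD i 0 * x (i + 1) - x i)
    (h0 : 0 ≤ x 0) (h1 : x 0 ≤ x 1) :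
    ∀ i, i ≤ c.length → 0 ≤ x i ∧ x i ≤ x (i + 1) := by
  intro i
  induction i with
  | zero => exact fun _ => ⟨h0, h1⟩
  | succ i ih =>
    intro hi
    obtain ⟨a, b⟩ := ih (by omega)
    refine ⟨le_trans a b, ?_⟩
    have h2 : (2 : ℤ) ≤ c.getD i 0 := by
      rw [List.getD_eq_getElem _ _ (by omega)]; exact hc _ (List.getElem_mem _)
    rw [hx i (by omega)]
    nlinarith

theorem hjVal_gt_one : ∀ {c : List ℤ}, c ≠ [] → (∀ x ∈ c, (2 : ℤ) ≤ x) → 1 < HJFrac.hjVal c
  | [], h, _ => absurd rfl h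
  | x :: l, _, hc => by
    have hx : (2 : ℚ) ≤ (x : ℚ) := by exact_mod_cast hc x (List.mem_cons_self ..)
    rcases eq_or_ne l [] with hl | hl
    · subst hl; simp [HJFrac.hjVal]; linarith
    · have h1 := hjVal_gt_one hl (fun y hy => hc y (List.mem_cons_of_mem _ hy))
      have h2 : (HJFrac.hjVal l)⁻¹ < 1 := inv_lt_one_of_one_lt₀ h1
      simp only [HJFrac.hjVal]
      linarith

structure HJData (b t : ℤ) (c : List ℤ) : Prop where
  two : ∀ x ∈ c, (2 : ℤ) ≤ x
  len : 1 ≤ c.length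
  pos : ∀ i, i ≤ c.length → 0 < hjR b t c i
  last : hjR b t c (c.length + 1) = 0
  dec : ∀ i, i ≤ c.length → hjR b t c (i + 1) < hjR b t c i
  unit : hjR b t c c.length = 1

theorem hjData (b t : ℤ) (c : List ℤ) (hc : ∀ x ∈ c, (2 : ℤ) ≤ x) (ht0 : 0 < t) (htb : t < b)
    (hcop : IsCoprime t b) (hv : HJFrac.hjVal c = (b : ℚ) / (t : ℚ)) : HJData b t c := by
  have hne : c ≠ [] := by
    rintro rfl
    rw [show HJFrac.hjVal [] = 0 from rfl] at hv
    have : (0 : ℚ) < (b : ℚ) / t := div_pos (by exact_mod_cast lt_trans ht0 htb) (by exact_mod_cast ht0)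
    linarith
  have hlen : 1 ≤ c.length := List.length_pos_iff.2 hne
  have main : ∀ i, i < c.length → 0 < hjR b t c i ∧ 0 < hjR b t c (i + 1) ∧
      HJFrac.hjVal (c.drop i) = (hjR b t c i : ℚ) / hjR b t c (i + 1) := by
    intro i
    induction i with
    | zero =>
      intro _
      simp [hjR_zero, hjR_one, hv, ht0, lt_trans ht0 htb]
    | succ i ih =>
      intro hi
      obtain ⟨a, a', e⟩ := ih (by omega)
      have hd : c.drop i = (c)[i]'(by omega) :: c.drop (i + 1) := List.drop_eq_getElem_cons (by omega)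
      have hgt : 1 < HJFrac.hjVal (c.drop (i + 1)) := by
        refine hjVal_gt_one ?_ (fun x hx => hc x (List.mem_of_mem_drop hx))
        simp; omega
      rw [hd] at e
      simp only [HJFrac.hjVal] at e
      have ha' : (hjR b t c (i + 1) : ℚ) ≠ 0 := by exact_mod_cast a'.ne'
      have e2 : (HJFrac.hjVal (c.drop (i + 1)))⁻¹ = (hjR b t c (i + 2) : ℚ) / hjR b t c (i + 1) := by
        rw [hjR_rec, List.getD_eq_getElem _ _ (by omega)]
        push_cast
        rw [sub_div, mul_div_assoc, div_self ha', mul_one, ← e]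
        ring
      have hpos : (0 : ℚ) < (hjR b t c (i + 2) : ℚ) := by
        have h1 : (0 : ℚ) < (hjR b t c (i + 2) : ℚ) / hjR b t c (i + 1) := by
          rw [← e2]; positivity
        have := mul_pos h1 (show (0 : ℚ) < hjR b t c (i + 1) by exact_mod_cast a')
        rwa [div_mul_cancel₀ _ ha'] at this
      refine ⟨a', by exact_mod_cast hpos, ?_⟩
      rw [← inv_inv (HJFrac.hjVal (c.drop (i + 1))), e2, inv_div]
  obtain ⟨r, hr⟩ : ∃ r, c.length = r + 1 := ⟨c.length - 1, by omega⟩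
  have hlast : hjR b t c (c.length + 1) = 0 := by
    obtain ⟨a, a', e⟩ := main r (by omega)
    rw [List.drop_eq_getElem_cons (by omega), List.drop_eq_nil_of_le (by omega)] at e
    simp only [HJFrac.hjVal, inv_zero, sub_zero] at e
    rw [eq_div_iff (by exact_mod_cast a'.ne')] at e
    rw [hr, show r + 1 + 1 = r + 2 from rfl, hjR_rec, List.getD_eq_getElem _ _ (by omega)]
    have : (c)[r]'(by omega) * hjR b t c (r + 1) = hjR b t c r := by exact_mod_cast e
    omega
  have hpos : ∀ i, i ≤ c.length → 0 < hjR b t c i := by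
    intro i hi
    rcases lt_or_eq_of_le hi with h | h
    · exact (main i h).1
    · subst h; rw [hr]; exact (main r (by omega)).2.1
  have hdec : ∀ i, i ≤ c.length → hjR b t c (i + 1) < hjR b t c i := by
    intro i hi
    rcases lt_or_eq_of_le hi with h | h
    · obtain ⟨a, a', e⟩ := main i h
      have hgt := hjVal_gt_one (c := c.drop i) (by simp; omega) (fun x hx => hc x (List.mem_of_mem_drop hx))
      rw [e, lt_div_iff₀ (by exact_mod_cast a'), one_mul] at hgt
      exact_mod_cast hgt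
    · subst h; rw [hlast]; exact hpos _ le_rfl
  refine ⟨hc, hlen, hpos, hlast, hdec, ?_⟩
  -- `R_r` divides every `R_i`, in particular `b` and `t`
  have hdiv : ∀ j i, i + j = c.length → hjR b t c c.length ∣ hjR b t c i ∧ hjR b t c c.length ∣ hjR b t c (i + 1) := by
    intro j
    induction j with
    | zero => intro i hi; rw [show i = c.length by omega, hlast]; exact ⟨dvd_rfl, dvd_zero _⟩
    | succ j ih =>
      intro i hi
      obtain ⟨h1, h2⟩ := ih (i + 1) (by omega)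
      refine ⟨?_, h1⟩
      have hrec := hjR_rec b t c i
      rw [show hjR b t c i = c.getD i 0 * hjR b t c (i + 1) - hjR b t c (i + 2) by linarith]
      exact dvd_sub (dvd_mul_of_dvd_right h1 _) h2
  obtain ⟨h1, h2⟩ := hdiv c.length 0 (by omega)
  rw [hjR_zero] at h1
  rw [hjR_one] at h2
  have hu := hcop.isUnit_of_dvd' h2 h1
  rcases Int.isUnit_iff.1 hu with h | h
  · exact h
  · have := hpos c.length le_rfl; omega

variable {b t : ℤ} {c : List ℤ}

theorem hjP_mono (h : HJData b t c) (i : ℕ) (hi : i ≤ c.length) :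
    0 ≤ hjP c i ∧ hjP c i ≤ hjP c (i + 1) :=
  mono_of_rec c h.two (hjP c) (fun i _ => rfl) (by simp [hjP]) (by simp [hjP]) i hi

theorem hjP_pos (h : HJData b t c) : ∀ i, 1 ≤ i → i ≤ c.length + 1 → 1 ≤ hjP c i := by
  intro i h1 hi
  induction i, h1 using Nat.le_induction with
  | base => simp [hjP]
  | succ i _ ih => exact le_trans (ih (by omega)) (hjP_mono h i (by omega)).2

theorem hjR_lt (h : HJData b t c) : ∀ i, 1 ≤ i → i ≤ c.length + 1 → hjR b t c i < b := by
  intro i h1 hi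
  induction i, h1 using Nat.le_induction with
  | base => have := h.dec 0 (by omega); rwa [hjR_zero] at this
  | succ i _ ih => exact lt_trans (h.dec i (by omega)) (ih (by omega))

theorem emod_tP (h : HJData b t c) (i : ℕ) (h1 : 1 ≤ i) (hi : i ≤ c.length) :
    Int.emod (t * hjP c i) b = hjR b t c i := by
  change t * hjP c i % b = _
  rw [show t * hjP c i = hjR b t c i + b * hjQ c i by rw [hjR]; ring, Int.add_mul_emod_self_left,
    Int.emod_eq_of_lt (h.pos i hi).le (hjR_lt h i h1 (by omega))]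

theorem rem_lower (h : HJData b t c) (i : ℕ) (h1 : 1 < i) (hi : i ≤ c.length) (x : ℤ)
    (hx0 : 0 < x) (hx : x < hjP c i) : hjR b t c (i - 1) ≤ Int.emod (t * x) b := by
  obtain ⟨j, rfl⟩ : ∃ j, i = j + 1 := ⟨i - 1, by omega⟩
  rw [Nat.add_sub_cancel]
  have hb : 0 < b := by have := h.pos 0 (by omega); rwa [hjR_zero] at this
  change _ ≤ t * x % b
  have hr0 := Int.emod_nonneg (t * x) hb.ne'
  have hy : t * x % b = t * x - b * (t * x / b) := Int.emod_def ..
  generalize t * x / b = y at hy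
  have hdet := hjDet c j
  obtain ⟨u, hu⟩ : ∃ u, u = y * hjP c (j + 1) - x * hjQ c (j + 1) := ⟨_, rfl⟩
  obtain ⟨v, hv⟩ : ∃ v, v = x * hjQ c j - y * hjP c j := ⟨_, rfl⟩
  have ex' : x = -(u * hjP c j + v * hjP c (j + 1)) := by
    rw [hu, hv]; linear_combination x * hdet
  have er : t * x % b = -(u * hjR b t c j + v * hjR b t c (j + 1)) := by
    rw [hy, hu, hv, hjR, hjR]; linear_combination (t * x - b * y) * hdet
  have hP := hjP_mono h j (by omega)
  have hP1 := hjP_pos h (j + 1) (by omega) (by omega)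
  have hR1 := h.pos (j + 1) (by omega)
  have hR := h.dec j (by omega)
  obtain ⟨U, rfl⟩ : ∃ U, u = -U := ⟨-u, by ring⟩
  obtain ⟨V, rfl⟩ : ∃ V, v = -V := ⟨-v, by ring⟩
  rcases lt_trichotomy U 0 with hU | hU | hU
  · exfalso
    have hV : 1 ≤ V := by nlinarith
    have hVU : V ≤ -U := by nlinarith
    nlinarith
  · exfalso
    subst hU
    rcases le_or_gt V 0 with hV | hV
    · nlinarith
    · nlinarith
  · have hV : V ≤ 0 := by nlinarith
    have hVU : -V ≤ U - 1 := by nlinarith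
    rw [er]
    nlinarith

theorem rem_upper (h : HJData b t c) (i : ℕ) (h1 : 1 < i) (hi : i ≤ c.length) (x : ℤ)
    (hx0 : 0 < x) (hx : x < hjP c i) :
    Int.emod (t * x) b ≤ b + hjR b t c i - hjR b t c (i - 1) := by
  have hlo := rem_lower h i h1 hi x hx0 hx
  have hlo' := rem_lower h i h1 hi (hjP c i - x) (by omega) (by omega)
  have hb : 0 < b := by have := h.pos 0 (by omega); rwa [hjR_zero] at this
  have hR := h.dec (i - 1) (by omega)
  rw [show i - 1 + 1 = i by omega] at hR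
  change _ ≤ t * x % b at hlo
  change _ ≤ t * (hjP c i - x) % b at hlo'
  change t * x % b ≤ _
  have hlt := Int.emod_lt_of_pos (t * x) hb
  have hRi := h.pos i hi
  have key : t * (hjP c i - x) % b = b + hjR b t c i - t * x % b := by
    have e : t * (hjP c i - x) =
        (b + hjR b t c i - t * x % b) + b * (hjQ c i - t * x / b - 1) := by
      rw [Int.emod_def, hjR]; ring
    rw [e, Int.add_mul_emod_self_left, Int.emod_eq_of_lt (by omega) (by omega)]
  omega

section Data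

variable {p q m : ℕ}

theorem gcdK_facts (hp : 0 < p) (hpq : p < q) (hcop : Nat.Coprime p q) (hm : 0 < m)
    (hnt : ¬ (q - p ∣ m)) :
    ((q : ℤ) - p = (gcdK p q m : ℤ) * bB p q m) ∧
    ((gcdK p q m : ℤ) * tT p q m = ((q : ℤ) - p) * ((alpha p q m : ℤ) + 1) - p * m) ∧
    (0 < gcdK p q m) ∧ (0 < tT p q m) ∧ (tT p q m < bB p q m) ∧
    IsCoprime (tT p q m : ℤ) (bB p q m : ℤ) := by
  obtain ⟨g, hg⟩ : ∃ g, g = gcdK p q m := ⟨_, rfl⟩
  have hg0 : 0 < g := hg ▸ Nat.gcd_pos_of_pos_left _ hm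
  obtain ⟨a, ha⟩ : g ∣ m := hg ▸ Nat.gcd_dvd_left _ _
  obtain ⟨b, hb⟩ : g ∣ q - p := hg ▸ Nat.gcd_dvd_right _ _
  have hD : 0 < q - p := by omega
  have hpD : Nat.Coprime p (q - p) := (Nat.coprime_sub_self_right hpq.le).2 hcop
  have hβ : m * p % (q - p) ≠ 0 := fun h =>
    hnt (hpD.symm.dvd_of_dvd_mul_right (Nat.dvd_of_mod_eq_zero h))
  have hβlt := Nat.mod_lt (m * p) hD
  have hgβ : g ∣ q - p - m * p % (q - p) :=
    Nat.dvd_sub ⟨b, hb⟩ ((Nat.dvd_mod_iff ⟨b, hb⟩).2 (Dvd.dvd.mul_right ⟨a, ha⟩ p))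
  obtain ⟨t, ht⟩ := hgβ
  have eb : bB p q m = b := by rw [bB, ← hg, hb, Nat.mul_div_cancel_left _ hg0]
  have et : tT p q m = t := by rw [tT, ← hg, ht, Nat.mul_div_cancel_left _ hg0]
  rw [eb, et, ← hg]
  have hdm := Nat.mod_add_div (m * p) (q - p)
  have hDz : (q : ℤ) - p = g * b := by
    have := congrArg (fun x : ℕ => (x : ℤ)) hb
    push_cast [Nat.cast_sub hpq.le] at this
    exact this
  have hsum : g * t + m * p % (q - p) = q - p := by omega
  have htz : (g : ℤ) * t = ((q : ℤ) - p) * ((alpha p q m : ℤ) + 1) - p * m := by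
    rw [alpha]
    generalize m * p % (q - p) = β at hdm hsum
    generalize m * p / (q - p) = α at hdm ⊢
    zify [hpq.le] at hdm hsum
    linear_combination hsum - hdm
  refine ⟨hDz, htz, hg0, ?_, ?_, ?_⟩
  · rcases Nat.eq_zero_or_pos t with h | h
    · rw [h, mul_zero] at ht; omega
    · exact h
  · exact Nat.lt_of_mul_lt_mul_left (a := g) (by omega)
  · have hab : Nat.Coprime a b := by
      have : Nat.gcd m (q - p) = g * Nat.gcd a b := by rw [ha, hb, Nat.gcd_mul_left]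
      exact Nat.eq_of_mul_eq_mul_left hg0 (by rw [← this, hg, gcdK, mul_one])
    have hpb : Nat.Coprime p b := Nat.Coprime.coprime_dvd_right ⟨g, by rw [hb, mul_comm]⟩ hpD
    have h1 : IsCoprime ((p : ℤ) * a) (b : ℤ) := by
      rw [← Nat.cast_mul, Nat.isCoprime_iff_coprime]; exact Nat.Coprime.mul_left hpb hab
    have hma : (m : ℤ) = g * a := by exact_mod_cast ha
    have : (t : ℤ) = -((p : ℤ) * a) + (b : ℤ) * ((alpha p q m : ℤ) + 1) := by
      apply mul_left_cancel₀ (a := (g : ℤ)) (by omega)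
      linear_combination htz + ((alpha p q m : ℤ) + 1) * hDz - (p : ℤ) * hma
    rw [this]
    exact IsCoprime.add_mul_left_left h1.neg_left _

theorem hjData_of (hp : 0 < p) (hpq : p < q) (hcop : Nat.Coprime p q) (hm : 0 < m)
    (hnt : ¬ (q - p ∣ m)) {c : List ℤ} (hc : IsHJDigits p q m c) :
    HJData (bB p q m) (tT p q m) c := by
  obtain ⟨_, _, _, h4, h5, h6⟩ := gcdK_facts hp hpq hcop hm hnt
  exact hjData _ _ c hc.1 (by exact_mod_cast h4) (by exact_mod_cast h5) h6 (by rw [hc.2]; push_cast; ring)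

theorem nN_eq (hp : 0 < p) (hpq : p < q) (hcop : Nat.Coprime p q) (hm : 0 < m)
    (hnt : ¬ (q - p ∣ m)) (c : List ℤ) (i : ℕ) :
    nN p q m c i = (gcdK p q m : ℤ) * hjR (bB p q m) (tT p q m) c i := by
  obtain ⟨h1, h2, -⟩ := gcdK_facts hp hpq hcop hm hnt
  simp only [nN, eE, lL, hjR]
  push_cast
  linear_combination (-(hjP c i)) * h2 - (hjQ c i) * h1

theorem eE_eq (c : List ℤ) (i : ℕ) : eE p q m c i = lL p q m c i + (m : ℤ) * hjP c i := by
  simp only [eE, lL]; push_cast; ring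

theorem lL_mono {b t : ℤ} {c : List ℤ} (h : HJData b t c) (i : ℕ) (hi : i ≤ c.length) :
    0 ≤ lL p q m c i ∧ lL p q m c i ≤ lL p q m c (i + 1) :=
  mono_of_rec c h.two (lL p q m c) (fun i _ => by simp only [lL, hjP, hjQ]; ring)
    (by simp [lL, hjP, hjQ]) (by simp [lL, hjP, hjQ]) i hi

theorem eE_mono {b t : ℤ} {c : List ℤ} (h : HJData b t c) (i : ℕ) (hi : i ≤ c.length) :
    0 ≤ eE p q m c i ∧ eE p q m c i ≤ eE p q m c (i + 1) :=
  mono_of_rec c h.two (eE p q m c) (fun i _ => by simp only [eE, hjP, hjQ]; ring)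
    (by simp [eE, hjP, hjQ]) (by simp [eE, hjP, hjQ]; omega) i hi

theorem lL_pos {b t : ℤ} {c : List ℤ} (h : HJData b t c) : ∀ i, i ≤ c.length + 1 → 1 ≤ lL p q m c i := by
  intro i hi
  induction i with
  | zero => simp [lL, hjP, hjQ]
  | succ i ih => exact le_trans (ih (by omega)) (lL_mono h i (by omega)).2

theorem nN_pos (hp : 0 < p) (hpq : p < q) (hcop : Nat.Coprime p q) (hm : 0 < m)
    (hnt : ¬ (q - p ∣ m)) {c : List ℤ} (hc : IsHJDigits p q m c) (i : ℕ) (hi : i ≤ c.length) :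
    0 < nN p q m c i := by
  rw [nN_eq hp hpq hcop hm hnt]
  obtain ⟨-, -, hg, -⟩ := gcdK_facts hp hpq hcop hm hnt
  exact mul_pos (by exact_mod_cast hg) ((hjData_of hp hpq hcop hm hnt hc).pos i hi)

theorem nN_lt (hp : 0 < p) (hpq : p < q) (hcop : Nat.Coprime p q) (hm : 0 < m)
    (hnt : ¬ (q - p ∣ m)) {c : List ℤ} (hc : IsHJDigits p q m c) (i : ℕ) (hi : i ≤ c.length) :
    nN p q m c (i + 1) < nN p q m c i := by
  rw [nN_eq hp hpq hcop hm hnt, nN_eq hp hpq hcop hm hnt]
  obtain ⟨-, -, hg, -⟩ := gcdK_facts hp hpq hcop hm hnt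
  exact mul_lt_mul_of_pos_left ((hjData_of hp hpq hcop hm hnt hc).dec i hi) (by exact_mod_cast hg)

theorem nN_lt_D (hp : 0 < p) (hpq : p < q) (hcop : Nat.Coprime p q) (hm : 0 < m)
    (hnt : ¬ (q - p ∣ m)) {c : List ℤ} (hc : IsHJDigits p q m c) (i : ℕ) (h1 : 1 ≤ i)
    (hi : i ≤ c.length + 1) : nN p q m c i < (q : ℤ) - p := by
  obtain ⟨hD, -, hg, -⟩ := gcdK_facts hp hpq hcop hm hnt
  rw [nN_eq hp hpq hcop hm hnt, hD]
  exact mul_lt_mul_of_pos_left (hjR_lt (hjData_of hp hpq hcop hm hnt hc) i h1 hi) (by exact_mod_cast hg)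

theorem emod_pmx (hp : 0 < p) (hpq : p < q) (hcop : Nat.Coprime p q) (hm : 0 < m)
    (hnt : ¬ (q - p ∣ m)) {c : List ℤ} (hc : IsHJDigits p q m c) (i : ℕ) (hi : 1 < i)
    (hir : i ≤ c.length) (x : ℤ) (hx0 : 0 < x) (hx : x < hjP c i) :
    Int.emod ((p : ℤ) * m * x + nN p q m c i) ((q : ℤ) - p) =
      nN p q m c i + Int.emod ((p : ℤ) * m * x) ((q : ℤ) - p) ∧
    Int.emod ((p : ℤ) * m * x) ((q : ℤ) - p) + nN p q m c i < (q : ℤ) - p := by
  obtain ⟨hD, ht, hg, -⟩ := gcdK_facts hp hpq hcop hm hnt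
  have h := hjData_of hp hpq hcop hm hnt hc
  rw [nN_eq hp hpq hcop hm hnt]
  have hlo := rem_lower h i hi hir x hx0 hx
  have hR := h.dec (i - 1) (by omega)
  rw [show i - 1 + 1 = i by omega] at hR
  have hRi := h.pos i hir
  change _ ≤ (tT p q m : ℤ) * x % (bB p q m : ℤ) at hlo
  generalize (gcdK p q m : ℤ) = g, (bB p q m : ℤ) = b, (tT p q m : ℤ) = t at *
  have hb : 0 < b := by have := h.pos 0 (by omega); rwa [hjR_zero] at this
  have hlt := Int.emod_lt_of_pos (t * x) hb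
  have hρ := Int.emod_def (t * x) b
  generalize t * x % b = ρ, t * x / b = y at *
  have hg' : (0 : ℤ) < g := by
    by_contra hcon
    push Not at hcon
    nlinarith [show (0 : ℤ) < (q : ℤ) - p by omega]
  have e : (p : ℤ) * m * x = g * (b - ρ) + ((q : ℤ) - p) * (((alpha p q m : ℤ) + 1) * x - y - 1) := by
    linear_combination x * ht + g * hρ + (y + 1) * hD
  change (((p : ℤ) * m * x + g * hjR b t c i) % ((q : ℤ) - p) = g * hjR b t c i + ((p : ℤ) * m * x) % ((q : ℤ) - p)) ∧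
    ((p : ℤ) * m * x) % ((q : ℤ) - p) + g * hjR b t c i < (q : ℤ) - p
  rw [e, Int.add_mul_emod_self_left, Int.emod_eq_of_lt (a := g * (b - ρ))
      (mul_nonneg hg'.le (by omega)) (by rw [hD]; exact mul_lt_mul_of_pos_left (by omega) hg')]
  have hsum : g * (b - ρ) + g * hjR b t c i < (q : ℤ) - p := by
    rw [← mul_add, hD]; exact mul_lt_mul_of_pos_left (by omega) hg'
  refine ⟨?_, hsum⟩
  rw [show g * (b - ρ) + ((q : ℤ) - p) * (((alpha p q m : ℤ) + 1) * x - y - 1) + g * hjR b t c i =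
    (g * (b - ρ) + g * hjR b t c i) + ((q : ℤ) - p) * (((alpha p q m : ℤ) + 1) * x - y - 1) by ring,
    Int.add_mul_emod_self_left, Int.emod_eq_of_lt (by positivity) hsum, add_comm]

end Data

end Groth.Agent.InvHilbLead
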