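import Mathlib

/-!
Integer facts about monomials in three variables with weights `1, -p, q` and a residue mod `m`.
-/

namespace Groth.Agent.InvHilbLead

/-- exponents with the same `(n, c)` differ by a multiple of `(D, -1, -1)` -/
theorem same_nc {p q : ℤ} {d0 d1 d2 e0 e1 e2 : ℤ}
    (hn : e0 - p * e1 + q * e2 = d0 - p * d1 + q * d2) (hc : e1 - e2 = d1 - d2) :
    d0 - e0 = (q - p) * (e1 - d1) := by
  linear_combination (-1 : ℤ) * hn - q * hc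

theorem d0_lt_iff_min (p q : ℕ) (hpq : p < q) (d0 d1 d2 : ℕ) :
    d0 < q - p ↔
      ∀ e0 e1 e2 : ℕ, (e0 : ℤ) - (p : ℤ) * e1 + (q : ℤ) * e2 = (d0 : ℤ) - (p : ℤ) * d1 + (q : ℤ) * d2 → (e1 : ℤ) - e2 = (d1 : ℤ) - d2 →
        (p : ℤ) * d1 - (q : ℤ) * d2 ≤ (p : ℤ) * e1 - (q : ℤ) * e2 := by
  constructor
  · intro h e0 e1 e2 hn hc
    have hD := same_nc hn hc
    have hlt : (d0 : ℤ) < (q : ℤ) - p := by omega
    by_contra hcon
    push Not at hcon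
    have h1 : (q - p : ℤ) * 0 < (q - p) * ((e1 : ℤ) - d1) := by
      rw [mul_zero, ← hD]; linarith [hn]
    have h2 := Int.lt_of_mul_lt_mul_left h1 (by omega)
    have h3 : (q - p : ℤ) * 1 ≤ (q - p) * ((e1 : ℤ) - d1) :=
      mul_le_mul_of_nonneg_left (by omega) (by omega)
    rw [mul_one, ← hD] at h3
    omega
  · intro h
    by_contra hcon
    push Not at hcon
    have := h (d0 - (q - p)) (d1 + 1) (d2 + 1) (by push_cast [Nat.cast_sub hpq.le, Nat.cast_sub hcon]; ring)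
      (by push_cast; ring)
    push_cast at this
    have : (p : ℤ) < q := by exact_mod_cast hpq
    linarith

theorem max_omega (p q : ℕ) (hpq : p < q) (d0 d1 d2 : ℕ) :
    (∀ e0 e1 e2 : ℕ, (e0 : ℤ) - (p : ℤ) * e1 + (q : ℤ) * e2 = (d0 : ℤ) - (p : ℤ) * d1 + (q : ℤ) * d2 → (e1 : ℤ) - e2 = (d1 : ℤ) - d2 →
      (p : ℤ) * e1 - (q : ℤ) * e2 ≤ (if (d1 : ℤ) - d2 < 0 then (q : ℤ) * ((d1 : ℤ) - d2) else (p : ℤ) * ((d1 : ℤ) - d2))) ∧
    (∃ e0 e1 e2 : ℕ, (e0 : ℤ) - (p : ℤ) * e1 + (q : ℤ) * e2 = (d0 : ℤ) - (p : ℤ) * d1 + (q : ℤ) * d2 ∧ (e1 : ℤ) - e2 = (d1 : ℤ) - d2 ∧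
      (p : ℤ) * e1 - (q : ℤ) * e2 = (if (d1 : ℤ) - d2 < 0 then (q : ℤ) * ((d1 : ℤ) - d2) else (p : ℤ) * ((d1 : ℤ) - d2))) := by
  have hpq' : (p : ℤ) ≤ q := by exact_mod_cast hpq.le
  constructor
  · intro e0 e1 e2 _ hc
    rw [← hc]
    split_ifs
    · nlinarith [mul_le_mul_of_nonneg_right hpq' (Int.natCast_nonneg e1)]
    · nlinarith [mul_le_mul_of_nonneg_right hpq' (Int.natCast_nonneg e2)]
  · rcases lt_or_ge d1 d2 with h | h
    · refine ⟨d0 + (q - p) * d1, 0, d2 - d1, ?_, ?_, ?_⟩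
      · push_cast [Nat.cast_sub hpq.le, Nat.cast_sub h.le]; ring
      · push_cast [Nat.cast_sub h.le]; ring
      · rw [if_pos (by omega)]; push_cast [Nat.cast_sub h.le]; ring
    · refine ⟨d0 + (q - p) * d2, d1 - d2, 0, ?_, ?_, ?_⟩
      · push_cast [Nat.cast_sub hpq.le, Nat.cast_sub h]; ring
      · push_cast [Nat.cast_sub h]; ring
      · rw [if_neg (by omega)]; push_cast [Nat.cast_sub h]; ring

theorem omega_nonneg_iff (p q : ℕ) (hpq : p < q) (d0 d1 d2 : ℕ)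
    (hn : 0 ≤ (d0 : ℤ) - (p : ℤ) * d1 + (q : ℤ) * d2) (hd0 : d0 < q - p) :
    0 ≤ (p : ℤ) * d1 - (q : ℤ) * d2 ↔
      Int.emod ((p : ℤ) * ((d1 : ℤ) - d2)) ((q : ℤ) - p) + ((d0 : ℤ) - (p : ℤ) * d1 + (q : ℤ) * d2) < (q : ℤ) - p := by
  have hD : (0 : ℤ) < (q : ℤ) - p := by omega
  have hd : (d0 : ℤ) < (q : ℤ) - p := by omega
  have he : (p : ℤ) * ((d1 : ℤ) - d2) = ((p : ℤ) * d1 - q * d2) + ((q : ℤ) - p) * d2 := by ring
  change _ ↔ (p : ℤ) * ((d1 : ℤ) - d2) % ((q : ℤ) - p) + _ < _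
  rw [he, Int.add_mul_emod_self_left]
  generalize hw : (p : ℤ) * d1 - (q : ℤ) * d2 = w
  have hn' : 0 ≤ (d0 : ℤ) - w := by linarith [hw]
  rw [show (d0 : ℤ) - (p : ℤ) * d1 + (q : ℤ) * d2 = d0 - w by linarith [hw]]
  generalize (q : ℤ) - p = D at *
  constructor
  · intro h
    rw [Int.emod_eq_of_lt h (by omega)]
    omega
  · intro h
    by_contra hw0
    push Not at hw0
    have := Int.emod_nonneg w hD.ne'
    rcases lt_or_ge (w + D) 0 with h2 | h2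
    · omega
    · have : w % D = w + D := by
        rw [← Int.add_emod_right, Int.emod_eq_of_lt h2 (by omega)]
      omega

/-- given two monomials of the same `n` with `c - c' = M ≥ 0`, the `(n,c)`-class has a member
divisible by `x₀^(pM) x₁^M` -/
theorem exists_shift (p q : ℕ) (hpq : p < q) (d0 d1 d2 e0 e1 e2 M : ℕ)
    (hn : (e0 : ℤ) - (p : ℤ) * e1 + (q : ℤ) * e2 = (d0 : ℤ) - (p : ℤ) * d1 + (q : ℤ) * d2)
    (hc : ((d1 : ℤ) - d2) - ((e1 : ℤ) - e2) = M) :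
    ∃ f0 f1 f2 : ℕ, (f0 : ℤ) - (p : ℤ) * f1 + (q : ℤ) * f2 = (d0 : ℤ) - (p : ℤ) * d1 + (q : ℤ) * d2 ∧
      (f1 : ℤ) - f2 = (d1 : ℤ) - d2 ∧ p * M ≤ f0 ∧ M ≤ f1 := by
  have hpq' : (p : ℤ) ≤ q := by exact_mod_cast hpq.le
  have he0 : (0 : ℤ) ≤ e0 := Int.natCast_nonneg _
  rcases le_or_gt (M : ℤ) ((d1 : ℤ) - d2) with h | h
  · have hd : d2 ≤ d1 := by omega
    have h0 : (p : ℤ) * M ≤ d0 + ((q : ℤ) - p) * d2 := by
      rw [← hc]
      nlinarith [mul_le_mul_of_nonneg_right hpq' (Int.natCast_nonneg e2)]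
    refine ⟨d0 + (q - p) * d2, d1 - d2, 0, ?_, ?_, ?_, by omega⟩
    · push_cast [Nat.cast_sub hpq.le, Nat.cast_sub hd]; ring
    · push_cast [Nat.cast_sub hd]; ring
    · zify [hpq.le]; exact h0
  · have hc' : (e1 : ℤ) - e2 < 0 := by omega
    obtain ⟨t, ht⟩ : ∃ t : ℕ, (t : ℤ) = (M : ℤ) - ((d1 : ℤ) - d2) :=
      ⟨((M : ℤ) - ((d1 : ℤ) - d2)).toNat, Int.toNat_of_nonneg (by omega)⟩
    have hte : (q : ℤ) * t ≤ (d0 : ℤ) - (p : ℤ) * d1 + (q : ℤ) * d2 := by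
      rw [ht, ← hn, ← hc]
      nlinarith [mul_le_mul_of_nonneg_right hpq' (Int.natCast_nonneg e1)]
    have h0 : (p : ℤ) * M ≤ (d0 : ℤ) - (p : ℤ) * d1 + (q : ℤ) * d2 + p * M - q * t := by linarith
    refine ⟨((d0 : ℤ) - (p : ℤ) * d1 + (q : ℤ) * d2 + p * M - q * t).toNat, M, t, ?_, by omega, ?_, le_rfl⟩
    · rw [Int.toNat_of_nonneg (le_trans (by positivity) h0)]; ring
    · zify
      rw [Int.toNat_of_nonneg (le_trans (by positivity) h0)]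
      exact h0

/-- two monomials with the same `n`, congruent `c` mod `m`, and `d₀, e₀ < g` -/
theorem same_small (p q m : ℕ) (hpq : p < q) (hcop : Nat.Coprime p q) (hm : 0 < m)
    (d0 d1 d2 e0 e1 e2 : ℕ)
    (hn : (e0 : ℤ) - (p : ℤ) * e1 + (q : ℤ) * e2 = (d0 : ℤ) - (p : ℤ) * d1 + (q : ℤ) * d2)
    (hc : (m : ℤ) ∣ ((d1 : ℤ) - d2) - ((e1 : ℤ) - e2))
    (hd0 : d0 < Nat.gcd m (q - p)) (he0 : e0 < Nat.gcd m (q - p)) :
    d0 = e0 ∧ ∃ k : ℤ, ((e1 : ℤ) - e2) - ((d1 : ℤ) - d2) = k * ((m : ℤ) * ((q - p) / Nat.gcd m (q - p) : ℕ)) ∧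
      (e1 : ℤ) = d1 + k * (m / Nat.gcd m (q - p) * q : ℕ) ∧
      (e2 : ℤ) = d2 + k * (m / Nat.gcd m (q - p) * p : ℕ) := by
  obtain ⟨g, hg⟩ : ∃ g, g = Nat.gcd m (q - p) := ⟨_, rfl⟩
  rw [← hg] at hd0 he0 ⊢
  have hg0 : 0 < g := hg ▸ Nat.gcd_pos_of_pos_left _ hm
  obtain ⟨a, ha⟩ : g ∣ m := hg ▸ Nat.gcd_dvd_left _ _
  obtain ⟨b, hb⟩ : g ∣ q - p := hg ▸ Nat.gcd_dvd_right _ _
  have hb0 : 0 < b := Nat.pos_of_mul_pos_left (hb ▸ by omega : 0 < g * b)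
  rw [show m / g = a by rw [ha, Nat.mul_div_cancel_left _ hg0],
    show (q - p) / g = b by rw [hb, Nat.mul_div_cancel_left _ hg0]]
  have hab : Nat.Coprime a b := by
    have : Nat.gcd m (q - p) = g * Nat.gcd a b := by rw [ha, hb, Nat.gcd_mul_left]
    exact Nat.eq_of_mul_eq_mul_left hg0 (by rw [← this, ← hg, mul_one])
  have hpb : Nat.Coprime p b :=
    Nat.Coprime.coprime_dvd_right ⟨g, by rw [hb, mul_comm]⟩
      ((Nat.coprime_sub_self_right hpq.le).2 hcop)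
  have hq : (q : ℤ) = p + g * b := by
    have := congrArg (fun x : ℕ => (x : ℤ)) hb
    push_cast [Nat.cast_sub hpq.le] at this
    omega
  obtain ⟨j, hj⟩ := hc
  have key : (d0 : ℤ) - e0 = (g : ℤ) * ((p : ℤ) * a * j - b * ((d2 : ℤ) - e2)) := by
    have hma : (m : ℤ) = g * a := by exact_mod_cast ha
    linear_combination (-1 : ℤ) * hn + (p : ℤ) * hj + ((e2 : ℤ) - d2) * hq + (p : ℤ) * j * hma
  have h00 : (p : ℤ) * a * j - b * ((d2 : ℤ) - e2) = 0 := by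
    by_contra hne
    rcases lt_or_gt_of_ne hne with h | h
    · have := mul_le_mul_of_nonneg_left (Int.le_sub_one_of_lt h) (Int.natCast_nonneg g)
      rw [← key] at this
      omega
    · have := mul_le_mul_of_nonneg_left (Int.add_one_le_of_lt h) (Int.natCast_nonneg g)
      rw [← key] at this
      omega
  have hde : d0 = e0 := by rw [h00, mul_zero] at key; omega
  refine ⟨hde, ?_⟩
  have hcop' : IsCoprime (b : ℤ) ((p : ℤ) * a) := by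
    rw [← Nat.cast_mul, Nat.isCoprime_iff_coprime]
    exact Nat.Coprime.mul_right hpb.symm hab.symm
  obtain ⟨k, hk⟩ : (b : ℤ) ∣ j := hcop'.dvd_of_dvd_mul_left ⟨(d2 : ℤ) - e2, by linear_combination h00⟩
  have h2 : (d2 : ℤ) - e2 = p * a * k := by
    apply mul_left_cancel₀ (a := (b : ℤ)) (by omega)
    rw [hk] at h00
    linear_combination (-1 : ℤ) * h00
  refine ⟨-k, ?_, ?_, ?_⟩
  · push_cast; linear_combination (-1 : ℤ) * hj - (m : ℤ) * hk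
  · have hma : (m : ℤ) = g * a := by exact_mod_cast ha
    push_cast
    linear_combination (-1 : ℤ) * hj - (m : ℤ) * hk - h2 - (b : ℤ) * k * hma + (a : ℤ) * k * hq
  · push_cast; linear_combination (-1 : ℤ) * h2

section Ring

variable {R : Type*} [CommRing R] (x0 x1 x2 : R)

theorem pow_mul_eq_of_rel {D : ℕ} (hrel : x0 ^ D = x1 * x2) {d0 d1 d2 e0 e1 e2 k : ℕ}
    (h0 : d0 = e0 + D * k) (h1 : e1 = d1 + k) (h2 : e2 = d2 + k) :
    x0 ^ d0 * x1 ^ d1 * x2 ^ d2 = x0 ^ e0 * x1 ^ e1 * x2 ^ e2 := by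
  rw [h0, h1, h2, pow_add, pow_mul, hrel, mul_pow, pow_add, pow_add]
  ring

theorem monomial_eq_of_same_nc (p q : ℕ) (hpq : p < q) (hrel : x0 ^ (q - p) = x1 * x2)
    {d0 d1 d2 e0 e1 e2 : ℕ}
    (hn : (e0 : ℤ) - (p : ℤ) * e1 + (q : ℤ) * e2 = (d0 : ℤ) - (p : ℤ) * d1 + (q : ℤ) * d2)
    (hc : (e1 : ℤ) - e2 = (d1 : ℤ) - d2) :
    x0 ^ d0 * x1 ^ d1 * x2 ^ d2 = x0 ^ e0 * x1 ^ e1 * x2 ^ e2 := by
  have h := same_nc hn hc
  rcases le_or_gt d1 e1 with hle | hlt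
  · refine pow_mul_eq_of_rel x0 x1 x2 hrel (k := e1 - d1) ?_ (by omega) (by omega)
    zify [hpq.le, hle]
    linarith
  · refine (pow_mul_eq_of_rel x0 x1 x2 hrel (k := d1 - e1) ?_ (by omega) (by omega)).symm
    zify [hpq.le, hlt.le]
    linarith

/-- the monomial of larger `c` is a multiple of the one of smaller `c` modulo the relation -/
theorem monomial_eq_mul (p q : ℕ) (hpq : p < q) (hrel : x0 ^ (q - p) = x1 * x2)
    {d0 d1 d2 e0 e1 e2 m j : ℕ}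
    (hn : (e0 : ℤ) - (p : ℤ) * e1 + (q : ℤ) * e2 = (d0 : ℤ) - (p : ℤ) * d1 + (q : ℤ) * d2)
    (hc : ((d1 : ℤ) - d2) - ((e1 : ℤ) - e2) = (m * j : ℕ)) :
    x0 ^ d0 * x1 ^ d1 * x2 ^ d2 = (x0 ^ e0 * x1 ^ e1 * x2 ^ e2) * (x0 ^ (m * p) * x1 ^ m) ^ j := by
  obtain ⟨f0, f1, f2, hfn, hfc, hf0, hf1⟩ := exists_shift p q hpq d0 d1 d2 e0 e1 e2 (m * j) hn hc
  rw [monomial_eq_of_same_nc x0 x1 x2 p q hpq hrel hfn hfc]
  obtain ⟨g0, hg0⟩ := Nat.exists_eq_add_of_le hf0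
  obtain ⟨g1, hg1⟩ := Nat.exists_eq_add_of_le hf1
  subst hg0 hg1
  have hgn : (g0 : ℤ) - (p : ℤ) * g1 + (q : ℤ) * f2 = (e0 : ℤ) - (p : ℤ) * e1 + (q : ℤ) * e2 := by
    rw [hn]; push_cast at hfn; linarith
  have hgc : (g1 : ℤ) - f2 = (e1 : ℤ) - e2 := by push_cast at hfc hc; linarith
  rw [monomial_eq_of_same_nc x0 x1 x2 p q hpq hrel hgn hgc, pow_add, pow_add, mul_pow, ← pow_mul, ← pow_mul]
  ring

end Ring

end Groth.Agent.InvHilbLead
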