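import Mathlib
import Groth.Prelude.Def_W4c2invhilbsl2HJ
import Groth.Agent.InvHilbLead.Num
import Groth.Agent.InvHilbLead.HJ

/-!
Monomial bookkeeping for the weight pieces of the three- and five-variable rings.
-/

universe u

namespace Groth.Agent.InvHilbLead

open MvPolynomial W4c2invhilbsl2

noncomputable def mkd3 (a b c : ℕ) : Fin 3 →₀ ℕ := Finsupp.equivFunOnFinite.symm ![a, b, c]

noncomputable def mkd5 (a b c d e : ℕ) : Fin 5 →₀ ℕ :=
  Finsupp.equivFunOnFinite.symm ![a, b, c, d, e]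

@[simp] theorem mkd3_apply (a b c : ℕ) (i : Fin 3) : mkd3 a b c i = ![a, b, c] i := rfl
@[simp] theorem mkd5_apply (a b c d e : ℕ) (i : Fin 5) : mkd5 a b c d e i = ![a, b, c, d, e] i := rfl

theorem mkd3_eta (d : Fin 3 →₀ ℕ) : mkd3 (d 0) (d 1) (d 2) = d := by
  ext i; fin_cases i <;> rfl

theorem mkd5_eta (d : Fin 5 →₀ ℕ) : mkd5 (d 0) (d 1) (d 2) (d 3) (d 4) = d := by
  ext i; fin_cases i <;> rfl

theorem monomial_mkd3 {k : Type u} [CommRing k] (a b c : ℕ) (r : k) :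
    monomial (mkd3 a b c) r = C r * (X 0 ^ a * X 1 ^ b * X 2 ^ c) := by
  rw [monomial_eq, Finsupp.prod_fintype _ _ (fun i => pow_zero _), Fin.prod_univ_three]
  rfl

theorem monomial_mkd5 {k : Type u} [CommRing k] (a b c d e : ℕ) (r : k) :
    monomial (mkd5 a b c d e) r = C r * (X 0 ^ a * X 1 ^ b * X 2 ^ c * X 3 ^ d * X 4 ^ e) := by
  rw [monomial_eq, Finsupp.prod_fintype _ _ (fun i => pow_zero _), Fin.prod_univ_five]
  rfl

theorem monomial_eta3 {k : Type u} [CommRing k] (d : Fin 3 →₀ ℕ) (r : k) :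
    monomial d r = C r * (X 0 ^ d 0 * X 1 ^ d 1 * X 2 ^ d 2) := by
  conv_lhs => rw [← mkd3_eta d]
  rw [monomial_mkd3]

theorem monomial_eta5 {k : Type u} [CommRing k] (d : Fin 5 →₀ ℕ) (r : k) :
    monomial d r = C r * (X 0 ^ d 0 * X 1 ^ d 1 * X 2 ^ d 2 * X 3 ^ d 3 * X 4 ^ d 4) := by
  conv_lhs => rw [← mkd5_eta d]
  rw [monomial_mkd5]

variable {p q m : ℕ}

theorem weight3_iff (d : Fin 3 →₀ ℕ) (ν : ℤ × ZMod m) :
    Finsupp.weight (wt3 p q m) d = ν ↔
      (d 0 : ℤ) - p * d 1 + q * d 2 = ν.1 ∧ (d 2 : ZMod m) - d 1 = ν.2 := by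
  rw [Finsupp.weight_apply, Finsupp.sum_fintype d (fun i c => c • wt3 p q m i) (fun i => by simp), Fin.sum_univ_three]
  rw [show d 0 • wt3 p q m 0 + d 1 • wt3 p q m 1 + d 2 • wt3 p q m 2 =
    ((d 0 : ℤ) - p * d 1 + q * d 2, (d 2 : ZMod m) - d 1) by ext <;> simp [wt3] <;> ring]
  exact Prod.ext_iff

theorem weight5_iff (d : Fin 5 →₀ ℕ) (ν : ℤ × ZMod m) :
    Finsupp.weight (wt5 p q m) d = ν ↔
      (d 0 : ℤ) - p * (d 1 + d 2) + q * (d 3 + d 4) = ν.1 ∧
        ((d 3 : ZMod m) + d 4) - (d 1 + d 2) = ν.2 := by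
  rw [Finsupp.weight_apply, Finsupp.sum_fintype d (fun i c => c • wt5 p q m i) (fun i => by simp), Fin.sum_univ_five]
  simp [wt5, Prod.ext_iff]
  constructor <;> rintro ⟨h1, h2⟩ <;> constructor <;> first | linear_combination h1 | linear_combination h2

theorem zmod_dvd {a b : ℕ} : (b : ZMod m) - a = 0 ↔ (m : ℤ) ∣ (a : ℤ) - b := by
  rw [← ZMod.intCast_zmod_eq_zero_iff_dvd]
  push_cast
  constructor <;> intro h <;> linear_combination (-1 : ZMod m) * h

theorem same_weight3 {d e : Fin 3 →₀ ℕ}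
    (h : Finsupp.weight (wt3 p q m) d = Finsupp.weight (wt3 p q m) e) :
    (e 0 : ℤ) - p * e 1 + q * e 2 = (d 0 : ℤ) - p * d 1 + q * d 2 ∧
      (m : ℤ) ∣ ((d 1 : ℤ) - d 2) - ((e 1 : ℤ) - e 2) := by
  obtain ⟨h1, h2⟩ := (weight3_iff d _).1 h
  obtain ⟨g1, g2⟩ := (weight3_iff (p := p) (q := q) (m := m) e _).1 rfl
  refine ⟨by omega, ?_⟩
  rw [← ZMod.intCast_zmod_eq_zero_iff_dvd]
  push_cast
  linear_combination g2 - h2

theorem hom_induction {k : Type u} [CommRing k] {σ : Type*} {M : Type*} [AddCommMonoid M]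
    (w : σ → M) (ν : M) {Q : MvPolynomial σ k → Prop} (h0 : Q 0)
    (hadd : ∀ f g, Q f → Q g → Q (f + g))
    (hmon : ∀ d a, Finsupp.weight w d = ν → Q (monomial d a)) {f : MvPolynomial σ k}
    (hf : f ∈ weightedHomogeneousSubmodule k w ν) : Q f := by
  rw [f.as_sum]
  refine Finset.sum_induction _ Q hadd h0 (fun d hd => hmon d _ ?_)
  exact hf (mem_support_iff.1 hd)

theorem piece_rank_le_one {k : Type u} [Field k] {σ : Type} {M : Type*} [AddCommMonoid M]
    (w : σ → M) (I : Ideal (MvPolynomial σ k)) (ν : M) (v : MvPolynomial σ k ⧸ I)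
    (h : ∀ d, Finsupp.weight w d = ν → ∃ a : k,
      Ideal.Quotient.mk I (monomial d 1) = a • v) :
    Module.rank k (piece k w I ν) ≤ 1 := by
  rw [rank_submodule_le_one_iff']
  refine ⟨v, ?_⟩
  rintro _ ⟨f, hf, rfl⟩
  refine hom_induction w ν (Q := fun f => (Ideal.Quotient.mkₐ k I).toLinearMap f ∈ Submodule.span k {v})
    (by simp) (fun f g hf hg => by rw [map_add]; exact Submodule.add_mem _ hf hg) (fun d a hd => ?_) hf
  obtain ⟨b, hb⟩ := h d hd
  have : monomial d a = a • monomial d (1 : k) := by rw [smul_monomial, smul_eq_mul, mul_one]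
  rw [this, map_smul]
  refine Submodule.smul_mem _ _ ?_
  simp only [AlgHom.toLinearMap_apply, Ideal.Quotient.mkₐ_eq_mk, hb]
  exact Submodule.smul_mem _ _ (Submodule.subset_span rfl)

section I

variable {k : Type u} [Field k]

theorem idealI_rank (p q m : ℕ) (hpq : p < q) (s : k) (ν : ℤ × ZMod m) :
    Module.rank k (piece k (wt5 p q m) (idealI k p q m s) ν) ≤ 1 := by
  classical
  let φ := Ideal.Quotient.mk (idealI k p q m s)
  have mem : ∀ x ∈ ({X 0 ^ (q - p) - X 1 * X 4, X 2, X 3, C s - X 0 ^ (m * p) * X 1 ^ m} :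
      Set (MvPolynomial (Fin 5) k)), φ x = 0 :=
    fun x hx => Ideal.Quotient.eq_zero_iff_mem.2 (Ideal.subset_span hx)
  have hrel : φ (X 0) ^ (q - p) = φ (X 1) * φ (X 4) := by
    rw [← sub_eq_zero, ← map_pow, ← map_mul, ← map_sub]; exact mem _ (by simp)
  have h2 : φ (X 2) = 0 := mem _ (by simp)
  have h3 : φ (X 3) = 0 := mem _ (by simp)
  have hu : φ (X 0) ^ (m * p) * φ (X 1) ^ m = φ (C s) := by
    rw [eq_comm, ← sub_eq_zero, ← map_pow, ← map_pow, ← map_mul, ← map_sub]; exact mem _ (by simp)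
  by_cases hex : ∃ d : Fin 5 →₀ ℕ, Finsupp.weight (wt5 p q m) d = ν ∧ d 2 = 0 ∧ d 3 = 0
  swap
  · refine piece_rank_le_one _ _ _ 0 (fun d hd => ⟨0, ?_⟩)
    change φ _ = _
    push Not at hex
    rw [smul_zero, monomial_eta5, map_mul, map_mul, map_mul, map_mul, map_mul, map_pow, map_pow, map_pow,
      map_pow, map_pow, h2, h3]
    rcases Nat.eq_zero_or_pos (d 2) with hz | hz
    · rw [zero_pow (hex d hd hz)]; ring
    · rw [zero_pow hz.ne']; ring
  · -- minimise `c`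
    obtain ⟨dA, hA⟩ := hex
    let S : ℕ → Prop := fun N => ∃ d : Fin 5 →₀ ℕ, Finsupp.weight (wt5 p q m) d = ν ∧ d 2 = 0 ∧ d 3 = 0 ∧
      ((d 1 : ℤ) - d 4 + |ν.1|).toNat = N
    have hS : ∃ N, S N := ⟨_, dA, hA.1, hA.2.1, hA.2.2, rfl⟩
    obtain ⟨e, he, he2, he3, heN⟩ := Nat.find_spec hS
    refine piece_rank_le_one _ _ _ (φ (monomial e 1)) (fun d hd => ?_)
    change ∃ a : k, φ _ = _
    by_cases hd2 : d 2 = 0
    swap
    · refine ⟨0, ?_⟩
      rw [zero_smul, monomial_eta5, map_mul, map_mul, map_mul, map_mul, map_mul, map_pow, map_pow,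
        map_pow, map_pow, map_pow, h2, zero_pow hd2]; ring
    by_cases hd3 : d 3 = 0
    swap
    · refine ⟨0, ?_⟩
      rw [zero_smul, monomial_eta5, map_mul, map_mul, map_mul, map_mul, map_mul, map_pow, map_pow,
        map_pow, map_pow, map_pow, h3, zero_pow hd3]; ring
    obtain ⟨n1, z1⟩ := (weight5_iff d ν).1 hd
    obtain ⟨n2, z2⟩ := (weight5_iff e ν).1 he
    simp only [hd2, hd3, he2, he3, Nat.cast_zero, add_zero, zero_add] at n1 z1 n2 z2
    have hdvd : (m : ℤ) ∣ ((d 1 : ℤ) - d 4) - ((e 1 : ℤ) - e 4) := by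
      rw [← ZMod.intCast_zmod_eq_zero_iff_dvd]; push_cast; linear_combination z2 - z1
    have hlow : ∀ x0 x1 x4 : ℕ, (x0 : ℤ) - p * x1 + q * x4 = ν.1 → 0 ≤ (x1 : ℤ) - x4 + |ν.1| := by
      intro x0 x1 x4 hx
      by_contra hneg
      push Not at hneg
      have a1 := le_abs_self ν.1
      have a2 := abs_nonneg ν.1
      have hpq' : (p : ℤ) < q := by exact_mod_cast hpq
      nlinarith [Int.natCast_nonneg x0, Int.natCast_nonneg x1,
        mul_le_mul_of_nonneg_right hpq'.le (Int.natCast_nonneg x1)]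
    have hle : (e 1 : ℤ) - e 4 ≤ (d 1 : ℤ) - d 4 := by
      have h' := Nat.find_min' hS ⟨d, hd, hd2, hd3, rfl⟩
      have := hlow _ _ _ n1
      have := hlow _ _ _ n2
      omega
    obtain ⟨j, hj⟩ : ∃ j : ℕ, ((d 1 : ℤ) - d 4) - ((e 1 : ℤ) - e 4) = (m * j : ℕ) := by
      obtain ⟨j, hj⟩ := hdvd
      rcases Nat.eq_zero_or_pos m with hm | hm
      · exact ⟨0, by rw [hm] at hj ⊢; simpa using hj⟩
      · have : 0 ≤ j := by nlinarith
        exact ⟨j.toNat, by push_cast; rw [Int.toNat_of_nonneg this, hj]⟩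
    refine ⟨s ^ j, ?_⟩
    have key := monomial_eq_mul (φ (X 0)) (φ (X 1)) (φ (X 4)) p q hpq hrel (by rw [n1, n2]) hj
    rw [hu] at key
    rw [monomial_eta5, monomial_eta5, hd2, hd3, he2, he3]
    simp only [map_mul, map_pow, pow_zero, mul_one, map_one, one_mul]
    rw [key, mul_comm, ← map_pow φ (C s), ← map_pow C]
    exact (Algebra.smul_def (A := MvPolynomial (Fin 5) k ⧸ idealI k p q m s) (s ^ j) _).symm

theorem idealJ_rank (p q m : ℕ) (hpq : p < q) (hcop : Nat.Coprime p q) (hm : 0 < m) (s : k)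
    (ν : ℤ × ZMod m) : Module.rank k (piece k (wt5 p q m) (idealJ k p q m s) ν) ≤ 1 := by
  classical
  let φ := Ideal.Quotient.mk (idealJ k p q m s)
  obtain ⟨g, hg⟩ : ∃ g, g = Nat.gcd m (q - p) := ⟨_, rfl⟩
  have mem : ∀ x ∈ ({X 0 ^ g, X 2, X 4, C s - X 1 ^ (m / g * q) * X 3 ^ (m / g * p)} :
      Set (MvPolynomial (Fin 5) k)), φ x = 0 := by
    subst hg
    exact fun x hx => Ideal.Quotient.eq_zero_iff_mem.2 (Ideal.subset_span hx)
  have h0 : φ (X 0) ^ g = 0 := by rw [← map_pow]; exact mem _ (by simp)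
  have h2 : φ (X 2) = 0 := mem _ (by simp)
  have h4 : φ (X 4) = 0 := mem _ (by simp)
  have hu : φ (X 1) ^ (m / g * q) * φ (X 3) ^ (m / g * p) = φ (C s) := by
    rw [eq_comm, ← sub_eq_zero, ← map_pow, ← map_pow, ← map_mul, ← map_sub]; exact mem _ (by simp)
  have van : ∀ d : Fin 5 →₀ ℕ, ¬ (d 2 = 0 ∧ d 4 = 0 ∧ d 0 < g) → φ (monomial d 1) = 0 := by
    intro d hd
    rw [monomial_eta5]
    simp only [map_mul, map_pow, map_one, one_mul]
    by_cases a : d 2 = 0
    · by_cases b : d 4 = 0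
      · obtain ⟨t, ht⟩ := Nat.exists_eq_add_of_le (Nat.le_of_not_lt (fun c => hd ⟨a, b, c⟩))
        rw [ht, pow_add, h0]; ring
      · rw [h4, zero_pow b]; ring
    · rw [h2, zero_pow a]; ring
  by_cases hex : ∃ d : Fin 5 →₀ ℕ, Finsupp.weight (wt5 p q m) d = ν ∧ d 2 = 0 ∧ d 4 = 0 ∧ d 0 < g
  swap
  · refine piece_rank_le_one _ _ _ 0 (fun d hd => ⟨0, ?_⟩)
    rw [smul_zero]
    exact van d (fun h => hex ⟨d, hd, h⟩)
  · let S : ℕ → Prop := fun N => ∃ d : Fin 5 →₀ ℕ, Finsupp.weight (wt5 p q m) d = ν ∧ d 2 = 0 ∧ d 4 = 0 ∧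
      d 0 < g ∧ d 1 = N
    obtain ⟨dA, a1, a2, a3, a4⟩ := hex
    have hS : ∃ N, S N := ⟨_, dA, a1, a2, a3, a4, rfl⟩
    obtain ⟨e, he, he2, he4, he0, heN⟩ := Nat.find_spec hS
    refine piece_rank_le_one _ _ _ (φ (monomial e 1)) (fun d hd => ?_)
    change ∃ a : k, φ _ = _
    by_cases hok : d 2 = 0 ∧ d 4 = 0 ∧ d 0 < g
    swap
    · exact ⟨0, by rw [zero_smul]; exact van d hok⟩
    obtain ⟨hd2, hd4, hd0⟩ := hok
    obtain ⟨n1, z1⟩ := (weight5_iff d ν).1 hd
    obtain ⟨n2, z2⟩ := (weight5_iff e ν).1 he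
    simp only [hd2, hd4, he2, he4, Nat.cast_zero, add_zero] at n1 z1 n2 z2
    have hdvd : (m : ℤ) ∣ ((e 1 : ℤ) - e 3) - ((d 1 : ℤ) - d 3) := by
      rw [← ZMod.intCast_zmod_eq_zero_iff_dvd]; push_cast; linear_combination z1 - z2
    obtain ⟨h00, j, -, hj1, hj2⟩ := same_small p q m hpq hcop hm (e 0) (e 1) (e 3) (d 0) (d 1) (d 3)
      (by rw [n1, n2]) hdvd (hg ▸ he0) (hg ▸ hd0)
    rw [← hg] at hj1 hj2
    have hle : e 1 ≤ d 1 := heN ▸ Nat.find_min' hS ⟨d, hd, hd2, hd4, hd0, rfl⟩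
    have hpos : 0 < m / g * q := Nat.mul_pos
      (Nat.div_pos (Nat.le_of_dvd hm (hg ▸ Nat.gcd_dvd_left _ _)) (hg ▸ Nat.gcd_pos_of_pos_left _ hm))
      (by omega)
    have hj0 : 0 ≤ j := by
      have : (0 : ℤ) < ((m / g * q : ℕ) : ℤ) := by exact_mod_cast hpos
      nlinarith
    obtain ⟨N, rfl⟩ := Int.eq_ofNat_of_zero_le hj0
    refine ⟨s ^ N, ?_⟩
    have e1 : d 1 = e 1 + m / g * q * N := by
      zify; push_cast at hj1; linear_combination hj1
    have e3 : d 3 = e 3 + m / g * p * N := by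
      zify; push_cast at hj2; linear_combination hj2
    rw [monomial_eta5, monomial_eta5, hd2, hd4, he2, he4, ← h00, e1, e3]
    simp only [map_mul, map_pow, pow_zero, mul_one, map_one, one_mul, pow_add, pow_mul]
    refine Eq.trans ?_ (Algebra.smul_def (A := MvPolynomial (Fin 5) k ⧸ idealJ k p q m s) (s ^ N) _).symm
    rw [show algebraMap k (MvPolynomial (Fin 5) k ⧸ idealJ k p q m s) (s ^ N) = φ (C (s ^ N)) from rfl,
      C_pow, map_pow, ← hu, pow_mul, pow_mul]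
    ring

end I

section L

variable {k : Type u} [Field k]

theorem gen_split (hp : 0 < p) (hpq : p < q) (hcop : Nat.Coprime p q) (hm : 0 < m)
    (hnt : ¬ (q - p ∣ m)) {c : List ℤ} (hc : IsHJDigits p q m c) (i : ℕ) (hi : 1 ≤ i)
    (hir : i ≤ c.length) (d0 d1 d2 : ℕ)
    (hn : (d0 : ℤ) - p * d1 + q * d2 = nN p q m c i) (hdvd : (m : ℤ) ∣ (d1 : ℤ) - d2) :
    (nN p q m c i).toNat ≤ d0 ∨
      ((eE p q m c i).toNat ≤ d1 ∧ (lL p q m c i).toNat ≤ d2) := by
  have h := hjData_of hp hpq hcop hm hnt hc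
  have hn0 := nN_pos hp hpq hcop hm hnt hc i hir
  have hnD := nN_lt_D hp hpq hcop hm hnt hc i hi (by omega)
  have hP := hjP_pos h i hi (by omega)
  by_cases h0 : (nN p q m c i).toNat ≤ d0
  · exact Or.inl h0
  refine Or.inr ?_
  push Not at h0
  have h0' : (d0 : ℤ) < nN p q m c i := by omega
  obtain ⟨j, hj⟩ := hdvd
  have hD : (0 : ℤ) < (q : ℤ) - p := by omega
  have key : (d0 : ℤ) = nN p q m c i + (p : ℤ) * m * j - ((q : ℤ) - p) * d2 := by
    linear_combination hn + (p : ℤ) * hj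
  have hjpos : 0 < j := by
    by_contra hcon
    push Not at hcon
    have : (p : ℤ) * m * j ≤ 0 := mul_nonpos_of_nonneg_of_nonpos (by positivity) hcon
    have h2 : 1 ≤ (d2 : ℤ) := by
      by_contra h2
      have h2' : (d2 : ℤ) = 0 := by omega
      have : (p : ℤ) * d1 = -(((d0 : ℤ) - nN p q m c i) * (-1)) * 1 := by
        rw [h2'] at hn; linarith
      have : (0 : ℤ) ≤ p * d1 := by positivity
      nlinarith
    have hd21 : (d1 : ℤ) ≤ d2 := by
      have : (m : ℤ) * j ≤ 0 := mul_nonpos_of_nonneg_of_nonpos (by positivity) hcon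
      omega
    nlinarith [mul_le_mul_of_nonneg_left hd21 (Int.natCast_nonneg p), mul_le_mul_of_nonneg_left h2 hD.le]
  have hjP' : hjP c i ≤ j := by
    by_contra hcon
    push Not at hcon
    have hi1 : 1 < i := by
      by_contra hh
      have : i = 1 := by omega
      subst this
      simp [hjP] at hcon
      omega
    obtain ⟨-, hlt⟩ := emod_pmx hp hpq hcop hm hnt hc i hi1 hir j hjpos hcon
    change (p : ℤ) * m * j % ((q : ℤ) - p) + _ < _ at hlt
    have hge := Int.emod_nonneg ((p : ℤ) * m * j) hD.ne'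
    have hdef := Int.emod_def ((p : ℤ) * m * j) ((q : ℤ) - p)
    rw [hdef] at hlt hge
    generalize (p : ℤ) * m * j / ((q : ℤ) - p) = y at hlt hge
    have h1 : y < d2 := by
      by_contra hy
      push Not at hy
      nlinarith [mul_le_mul_of_nonneg_left hy hD.le]
    have h2 : (d2 : ℤ) < y + 1 := by
      by_contra hy
      push Not at hy
      nlinarith [mul_le_mul_of_nonneg_left hy hD.le, Int.natCast_nonneg d0]
    omega
  have hDl : ((q : ℤ) - p) * lL p q m c i = (p : ℤ) * m * hjP c i + nN p q m c i := by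
    simp only [nN, eE, lL]; push_cast; ring
  have hl : lL p q m c i ≤ d2 := by
    by_contra hcon
    push Not at hcon
    have h1 := mul_le_mul_of_nonneg_left (Int.le_sub_one_of_lt hcon) hD.le
    have h2 := mul_le_mul_of_nonneg_left hjP' (show (0 : ℤ) ≤ (p : ℤ) * m by positivity)
    rw [mul_sub, mul_one, hDl] at h1
    nlinarith
  have he : eE p q m c i ≤ d1 := by
    rw [eE_eq]
    have := mul_le_mul_of_nonneg_left hjP' (Int.natCast_nonneg m)
    omega
  omega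

theorem idealL_rank (hp : 0 < p) (hpq : p < q) (hcop : Nat.Coprime p q) (hm : 0 < m)
    (hnt : ¬ (q - p ∣ m)) {c : List ℤ} (hc : IsHJDigits p q m c) (i : ℕ) (hi : 1 ≤ i)
    (hir : i ≤ c.length) (s : k) (ν : ℤ × ZMod m) :
    Module.rank k (piece k (wt3 p q m) (idealL k p q m c i s) ν) ≤ 1 := by
  classical
  obtain ⟨i', rfl⟩ : ∃ i', i = i' + 1 := ⟨i - 1, by omega⟩
  let φ := Ideal.Quotient.mk (idealL k p q m c (i' + 1) s)
  have hdat := hjData_of hp hpq hcop hm hnt hc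
  obtain ⟨n1, hn1⟩ : ∃ n : ℕ, (n : ℤ) = nN p q m c i' :=
    ⟨_, Int.toNat_of_nonneg (nN_pos hp hpq hcop hm hnt hc i' (by omega)).le⟩
  obtain ⟨n2, hn2⟩ : ∃ n : ℕ, (n : ℤ) = nN p q m c (i' + 1) :=
    ⟨_, Int.toNat_of_nonneg (nN_pos hp hpq hcop hm hnt hc (i' + 1) hir).le⟩
  obtain ⟨e2, he2⟩ : ∃ n : ℕ, (n : ℤ) = eE p q m c (i' + 1) :=
    ⟨_, Int.toNat_of_nonneg (le_trans (eE_mono hdat i' (by omega)).1 (eE_mono hdat i' (by omega)).2)⟩
  obtain ⟨l2, hl2⟩ : ∃ n : ℕ, (n : ℤ) = lL p q m c (i' + 1) :=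
    ⟨_, Int.toNat_of_nonneg (le_trans (lL_mono hdat i' (by omega)).1 (lL_mono hdat i' (by omega)).2)⟩
  have hl2pos : 1 ≤ l2 := by have := lL_pos (p := p) (q := q) (m := m) hdat (i' + 1) (by omega); omega
  have hgen : ∀ x ∈ ({X 0 ^ n1, C s * X 0 ^ n2 - X 1 ^ e2 * X 2 ^ l2} : Set (MvPolynomial (Fin 3) k)),
      φ x = 0 := by
    intro x hx
    apply Ideal.Quotient.eq_zero_iff_mem.2
    unfold idealL
    rw [show i' + 1 - 1 = i' from rfl, ← hn1, ← hn2, ← he2, ← hl2]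
    simp only [Int.toNat_natCast]
    exact Submodule.mem_sup_left (Ideal.subset_span hx)
  have hK : ∀ z : Fin 3 →₀ ℕ, z ≠ 0 → Finsupp.weight (wt3 p q m) z = 0 → φ (monomial z 1) = 0 :=
    fun z h1 h2 => Ideal.Quotient.eq_zero_iff_mem.2
      (Submodule.mem_sup_right (Ideal.subset_span ⟨z, h1, h2, rfl⟩))
  have hx0 : φ (X 0) ^ n1 = 0 := by rw [← map_pow]; exact hgen _ (by simp)
  have hrel : φ (X 1) ^ e2 * φ (X 2) ^ l2 = φ (C s) * φ (X 0) ^ n2 := by
    rw [eq_comm, ← sub_eq_zero, ← map_pow, ← map_pow, ← map_pow, ← map_mul, ← map_mul, ← map_sub]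
    exact hgen _ (by simp)
  let Std : (Fin 3 →₀ ℕ) → Prop := fun d => d 0 < n1 ∧ ¬ (e2 ≤ d 1 ∧ l2 ≤ d 2) ∧
    ∀ z : Fin 3 →₀ ℕ, z ≠ 0 → Finsupp.weight (wt3 p q m) z = 0 → ¬ z ≤ d
  -- uniqueness
  have uniq : ∀ d d' : Fin 3 →₀ ℕ, Finsupp.weight (wt3 p q m) d = ν →
      Finsupp.weight (wt3 p q m) d' = ν → Std d → Std d' → d = d' := by
    intro d d' hd hd' hs hs'
    have hn12 : (n2 : ℤ) < n1 := by rw [hn1, hn2]; exact nN_lt hp hpq hcop hm hnt hc i' (by omega)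
    have hem := eE_mono (p := p) (q := q) (m := m) hdat i' (by omega)
    have hlm := lL_mono (p := p) (q := q) (m := m) hdat i' (by omega)
    obtain ⟨e1, he1⟩ : ∃ x, x = eE p q m c i' := ⟨_, rfl⟩
    obtain ⟨l1, hl1⟩ : ∃ x, x = lL p q m c i' := ⟨_, rfl⟩
    rw [← he1, ← he2] at hem
    rw [← hl1, ← hl2] at hlm
    -- write the difference in the basis
    have coord : ∃ A B : ℤ, (d' 0 : ℤ) - d 0 = -(A * n1 + B * n2) ∧
        (d' 1 : ℤ) - d 1 = A * e1 + B * e2 ∧ (d' 2 : ℤ) - d 2 = A * l1 + B * l2 := by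
      obtain ⟨hw, j, hj⟩ := same_weight3 (hd'.trans hd.symm)
      have hdet := hjDet c i'
      obtain ⟨y, hy⟩ : ∃ y : ℤ, y = (d' 2 : ℤ) - d 2 := ⟨_, rfl⟩
      refine ⟨hjP c (i' + 1) * y - lL p q m c (i' + 1) * j,
        lL p q m c i' * j - hjP c i' * y, ?_, ?_, ?_⟩
      · rw [hn1, hn2]
        simp only [nN, eE, lL]
        push_cast
        linear_combination (-1 : ℤ) * hw + (p : ℤ) * hj + ((q : ℤ) - p) * hy +
          ((p : ℤ) * m * j - ((q : ℤ) - p) * y) * hdet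
      · rw [he1, he2]
        simp only [eE, lL]
        push_cast
        linear_combination hj - hy + ((m : ℤ) * j + y) * hdet
      · rw [hl1, hl2]
        simp only [lL]
        push_cast
        linear_combination -hy + y * hdet
    have core : ∀ (d d' : Fin 3 →₀ ℕ) (A B : ℤ), Finsupp.weight (wt3 p q m) d = ν →
        Finsupp.weight (wt3 p q m) d' = ν → Std d → Std d' →
        (d' 0 : ℤ) - d 0 = -(A * n1 + B * n2) →
        (d' 1 : ℤ) - d 1 = A * e1 + B * e2 → (d' 2 : ℤ) - d 2 = A * l1 + B * l2 →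
        0 ≤ A → (A = 0 → 0 ≤ B) → d = d' := by
      intro d d' A B hd hd' hs hs' c0 c1 c2 hA hB
      obtain ⟨s0, s1, s2⟩ := hs
      obtain ⟨t0, t1, t2⟩ := hs'
      have hd00 : (0 : ℤ) ≤ d 0 ∧ (0 : ℤ) ≤ d' 0 ∧ (d 0 : ℤ) < n1 ∧ (d' 0 : ℤ) < n1 := by omega
      rcases eq_or_lt_of_le hA with hA0 | hA0
      · subst hA0
        simp only [zero_mul, zero_add] at c0 c1 c2
        rcases eq_or_lt_of_le (hB rfl) with hB0 | hB0
        · subst hB0
          simp only [zero_mul, neg_zero] at c0 c1 c2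
          ext a; fin_cases a <;> simp only [Fin.zero_eta, Fin.mk_one, Fin.reduceFinMk] <;> omega
        · exfalso
          apply t1
          constructor
          · have : (e2 : ℤ) ≤ B * e2 := le_mul_of_one_le_left (by positivity) (by omega)
            omega
          · have : (l2 : ℤ) ≤ B * l2 := le_mul_of_one_le_left (by positivity) (by omega)
            omega
      · exfalso
        rcases le_or_gt 0 B with hB0 | hB0
        · have h1 : (n1 : ℤ) ≤ A * n1 := le_mul_of_one_le_left (by positivity) (by omega)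
          have h2 : (0 : ℤ) ≤ B * n2 := by positivity
          omega
        · have hAB : A ≤ -B := by
            by_contra hcon
            push Not at hcon
            nlinarith [mul_le_mul_of_nonneg_right (show -B ≤ A - 1 by omega) (Int.natCast_nonneg n2),
              mul_nonneg (show (0 : ℤ) ≤ A - 1 by omega) (show (0 : ℤ) ≤ (n1 : ℤ) - n2 by omega)]
          have hd1 : (d' 1 : ℤ) - d 1 ≤ 0 := by
            rw [c1]
            nlinarith [mul_le_mul_of_nonneg_left hem.2 hA, mul_le_mul_of_nonneg_right hAB (Int.natCast_nonneg e2)]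
          have hd2 : (d' 2 : ℤ) - d 2 ≤ 0 := by
            rw [c2]
            nlinarith [mul_le_mul_of_nonneg_left hlm.2 hA, mul_le_mul_of_nonneg_right hAB (Int.natCast_nonneg l2)]
          rcases le_or_gt ((d' 0 : ℤ) - d 0) 0 with h00 | h00
          · have hle : d' ≤ d := by
              intro a; fin_cases a <;> simp only [Fin.zero_eta, Fin.mk_one, Fin.reduceFinMk] <;> omega
            have hne : d - d' ≠ 0 := by
              intro hz
              have hdd : d = d' := le_antisymm (tsub_eq_zero_iff_le.1 hz) hle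
              subst hdd
              simp only [sub_self] at c0 c1 c2
              have hl0 : (0 : ℤ) ≤ l1 := hlm.1
              have h3 : A * l1 ≤ A * l2 := mul_le_mul_of_nonneg_left hlm.2 hA
              have h4 : (A + B) * n2 ≤ 0 := mul_nonpos_of_nonpos_of_nonneg (by omega) (by positivity)
              have h5 : (A + B) * l2 ≤ 0 := mul_nonpos_of_nonpos_of_nonneg (by omega) (by positivity)
              have h6 : 0 < A * ((n1 : ℤ) - n2) := mul_pos hA0 (by omega)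
              have h7 : A + B < 0 := by
                by_contra h7
                have : A + B = 0 := by omega
                have : (A + B) * (n2 : ℤ) = 0 := by rw [this, zero_mul]
                nlinarith
              have h8 : (A + B) * l2 < 0 := mul_neg_of_neg_of_pos h7 (by omega)
              nlinarith
            refine s2 (d - d') hne ?_ tsub_le_self
            have := congrArg (Finsupp.weight (wt3 p q m)) (tsub_add_cancel_of_le hle)
            rw [map_add, hd, hd'] at this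
            exact add_eq_right.1 this
          · apply s1
            have hBA : A + 1 ≤ -B := by
              by_contra hcon
              have hBe : -B = A := by omega
              have : 0 ≤ A * ((n1 : ℤ) - n2) := mul_nonneg hA (by omega)
              have hB' : B = -A := by omega
              subst hB'
              nlinarith
            constructor
            · have : (e2 : ℤ) ≤ -(A * e1 + B * e2) := by
                nlinarith [mul_le_mul_of_nonneg_left hem.2 hA, mul_le_mul_of_nonneg_right hBA (Int.natCast_nonneg e2)]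
              omega
            · have : (l2 : ℤ) ≤ -(A * l1 + B * l2) := by
                nlinarith [mul_le_mul_of_nonneg_left hlm.2 hA, mul_le_mul_of_nonneg_right hBA (Int.natCast_nonneg l2)]
              omega
    obtain ⟨A, B, c0, c1, c2⟩ := coord
    by_cases hcase : 0 ≤ A ∧ (A = 0 → 0 ≤ B)
    · exact core d d' A B hd hd' hs hs' c0 c1 c2 hcase.1 hcase.2
    · refine (core d' d (-A) (-B) hd' hd hs' hs ?_ ?_ ?_ (by omega) (by omega)).symm <;> linarith
  let v : MvPolynomial (Fin 3) k ⧸ idealL k p q m c (i' + 1) s :=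
    if h : ∃ d, Finsupp.weight (wt3 p q m) d = ν ∧ Std d then φ (monomial h.choose 1) else 0
  refine piece_rank_le_one _ _ _ v ?_
  suffices hrec : ∀ N, ∀ d : Fin 3 →₀ ℕ, d 2 = N → Finsupp.weight (wt3 p q m) d = ν →
      ∃ a : k, φ (monomial d 1) = a • v from fun d hd => hrec _ d rfl hd
  intro N
  induction N using Nat.strong_induction_on with
  | _ N ih =>
    intro d hN hd
    by_cases hS : Std d
    · refine ⟨1, ?_⟩
      have hex : ∃ d, Finsupp.weight (wt3 p q m) d = ν ∧ Std d := ⟨d, hd, hS⟩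
      rw [one_smul]
      simp only [v, dif_pos hex]
      rw [uniq d hex.choose hd hex.choose_spec.1 hS hex.choose_spec.2]
    by_cases h0 : n1 ≤ d 0
    · refine ⟨0, ?_⟩
      obtain ⟨t, ht⟩ := Nat.exists_eq_add_of_le h0
      rw [zero_smul, monomial_eta3]
      simp only [map_mul, map_pow]
      rw [ht, pow_add, hx0]; ring
    by_cases hz : ∃ z : Fin 3 →₀ ℕ, z ≠ 0 ∧ Finsupp.weight (wt3 p q m) z = 0 ∧ z ≤ d
    · obtain ⟨z, z0, z1, z2⟩ := hz
      refine ⟨0, ?_⟩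
      rw [zero_smul, ← tsub_add_cancel_of_le z2, ← one_mul (1 : k), ← monomial_mul, map_mul, hK z z0 z1,
        mul_zero]
    have hbig : e2 ≤ d 1 ∧ l2 ≤ d 2 := by
      by_contra hcon
      exact hS ⟨by omega, hcon, fun z a b cc => hz ⟨z, a, b, cc⟩⟩
    obtain ⟨a, ha⟩ : ∃ a, a = d 1 - e2 := ⟨_, rfl⟩
    obtain ⟨b, hb⟩ : ∃ b, b = d 2 - l2 := ⟨_, rfl⟩
    have hd' : Finsupp.weight (wt3 p q m) (mkd3 (d 0 + n2) a b) = ν := by
      rw [weight3_iff] at hd ⊢
      obtain ⟨w1, w2⟩ := hd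
      have hneq : (n2 : ℤ) = -(p : ℤ) * e2 + q * l2 := by rw [hn2, he2, hl2]; rfl
      have hel : (e2 : ℤ) = l2 + (m : ℤ) * hjP c (i' + 1) := by rw [he2, hl2]; exact eE_eq c _
      have hel' : (e2 : ZMod m) = l2 := by
        have := congrArg (fun x : ℤ => (x : ZMod m)) hel
        push_cast at this
        simpa using this
      simp only [mkd3_apply, Matrix.cons_val_zero, Matrix.cons_val_one, Matrix.cons_val_two,
        Matrix.tail_cons, Matrix.head_cons]
      constructor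
      · rw [ha, hb]; push_cast [Nat.cast_sub hbig.1, Nat.cast_sub hbig.2]
        linear_combination w1 + hneq
      · rw [ha, hb]; push_cast [Nat.cast_sub hbig.1, Nat.cast_sub hbig.2]
        linear_combination w2 + hel'
    obtain ⟨r, hr⟩ := ih b (by omega) _ rfl hd'
    refine ⟨s * r, ?_⟩
    have e : φ (monomial d 1) = φ (C s) * φ (monomial (mkd3 (d 0 + n2) a b) 1) := by
      rw [monomial_eta3, monomial_mkd3]
      simp only [map_mul, map_pow, map_one, one_mul]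
      rw [show d 1 = a + e2 by omega, show d 2 = b + l2 by omega, pow_add, pow_add, pow_add]
      linear_combination (φ (X 0) ^ d 0 * φ (X 1) ^ a * φ (X 2) ^ b) * hrel
    rw [e, hr, mul_smul]
    exact (Algebra.smul_def (A := MvPolynomial (Fin 3) k ⧸ idealL k p q m c (i' + 1) s) s _).symm

end L

section Gen

variable {k : Type u} [Field k]

theorem mem_weight3 {d : Fin 3 →₀ ℕ} {ν : ℤ × ZMod m} (r : k)
    (h : Finsupp.weight (wt3 p q m) d = ν) :
    monomial d r ∈ weightedHomogeneousSubmodule k (wt3 p q m) ν :=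
  isWeightedHomogeneous_monomial _ _ _ h

theorem mem_weight5 {d : Fin 5 →₀ ℕ} {ν : ℤ × ZMod m} (r : k)
    (h : Finsupp.weight (wt5 p q m) d = ν) :
    monomial d r ∈ weightedHomogeneousSubmodule k (wt5 p q m) ν :=
  isWeightedHomogeneous_monomial _ _ _ h

theorem weight5_mkd (a b c d e : ℕ) (ν : ℤ × ZMod m)
    (h1 : (a : ℤ) - p * (b + c) + q * (d + e) = ν.1)
    (h2 : ((d : ZMod m) + e) - (b + c) = ν.2) :
    Finsupp.weight (wt5 p q m) (mkd5 a b c d e) = ν := by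
  rw [weight5_iff]; exact ⟨h1, h2⟩

theorem weight3_mkd (a b c : ℕ) (ν : ℤ × ZMod m)
    (h1 : (a : ℤ) - p * b + q * c = ν.1) (h2 : (c : ZMod m) - b = ν.2) :
    Finsupp.weight (wt3 p q m) (mkd3 a b c) = ν := by
  rw [weight3_iff]; exact ⟨h1, h2⟩

theorem qp_gen3 (p q m : ℕ) (hp : 0 < p) (hpq : p < q) (f : MvPolynomial (Fin 3) k)
    (hf : f ∈ weightedHomogeneousSubmodule k (wt3 p q m) ((q : ℤ) - (p : ℤ), (0 : ZMod m))) :
    ∃ a b : MvPolynomial (Fin 3) k, a ∈ weightedHomogeneousSubmodule k (wt3 p q m) 0 ∧ b ∈ weightedHomogeneousSubmodule k (wt3 p q m) 0 ∧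
      f = a * X (0 : Fin 3) ^ (q - p) + b * (X (1 : Fin 3) * X (2 : Fin 3)) := by
  refine hom_induction _ _ (Q := fun f => ∃ a b : MvPolynomial (Fin 3) k, a ∈ weightedHomogeneousSubmodule k (wt3 p q m) 0 ∧ b ∈ weightedHomogeneousSubmodule k (wt3 p q m) 0 ∧ f = a * X (0 : Fin 3) ^ (q - p) + b * (X (1 : Fin 3) * X (2 : Fin 3))) ⟨0, 0, zero_mem _, zero_mem _, by simp⟩ ?_ ?_ hf
  · rintro f g ⟨a, b, ha, hb, rfl⟩ ⟨a', b', ha', hb', rfl⟩
    exact ⟨_, _, add_mem ha ha', add_mem hb hb', by ring⟩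
  intro d r hd
  obtain ⟨n, z⟩ := (weight3_iff d _).1 hd
  dsimp only at n z
  by_cases h0 : q - p ≤ d 0
  · obtain ⟨t, ht⟩ := Nat.exists_eq_add_of_le h0
    refine ⟨monomial (mkd3 t (d 1) (d 2)) r, 0, mem_weight3 r (weight3_mkd _ _ _ _ ?_ z), zero_mem _, ?_⟩
    · rw [ht] at n; push_cast [Nat.cast_sub hpq.le] at n; simp only [Prod.fst_zero]; linarith
    · rw [monomial_mkd3, monomial_eta3, ht]; ring
  · have h1 : 1 ≤ d 1 ∧ 1 ≤ d 2 := by
      by_contra hcon
      have hpq' : (p : ℤ) < q := by exact_mod_cast hpq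
      have h0' : (d 0 : ℤ) < q - p := by omega
      rcases Nat.eq_zero_or_pos (d 2) with h | h
      · rw [h] at n; push_cast at n
        have : (0 : ℤ) ≤ p * d 1 := by positivity
        linarith
      · have h1 : d 1 = 0 := by omega
        rw [h1] at n; push_cast at n
        have : (q : ℤ) * 1 ≤ q * d 2 := mul_le_mul_of_nonneg_left (by omega) (by positivity)
        have : (0 : ℤ) ≤ d 0 := by positivity
        nlinarith
    obtain ⟨a, ha⟩ := Nat.exists_eq_add_of_le h1.1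
    obtain ⟨b, hb⟩ := Nat.exists_eq_add_of_le h1.2
    refine ⟨0, monomial (mkd3 (d 0) a b) r, zero_mem _, mem_weight3 r (weight3_mkd _ _ _ _ ?_ ?_), ?_⟩
    · rw [ha, hb] at n; push_cast at n; simp only [Prod.fst_zero]; linarith
    · rw [ha, hb] at z; push_cast at z; simp only [Prod.snd_zero]; linear_combination z
    · rw [monomial_mkd3, monomial_eta3, ha, hb]; ring

theorem nN_gen3 (hp : 0 < p) (hpq : p < q) (hcop : Nat.Coprime p q) (hm : 0 < m)
    (hnt : ¬ (q - p ∣ m)) {c : List ℤ} (hc : IsHJDigits p q m c) (i : ℕ) (hi : 1 ≤ i)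
    (hir : i ≤ c.length) (f : MvPolynomial (Fin 3) k)
    (hf : f ∈ weightedHomogeneousSubmodule k (wt3 p q m) (nN p q m c i, (0 : ZMod m))) :
    ∃ a b : MvPolynomial (Fin 3) k, a ∈ weightedHomogeneousSubmodule k (wt3 p q m) 0 ∧ b ∈ weightedHomogeneousSubmodule k (wt3 p q m) 0 ∧
      f = a * X (0 : Fin 3) ^ (nN p q m c i).toNat +
        b * (X (1 : Fin 3) ^ (eE p q m c i).toNat * X (2 : Fin 3) ^ (lL p q m c i).toNat) := by
  refine hom_induction _ _ (Q := fun f => ∃ a b : MvPolynomial (Fin 3) k, a ∈ weightedHomogeneousSubmodule k (wt3 p q m) 0 ∧ b ∈ weightedHomogeneousSubmodule k (wt3 p q m) 0 ∧ f = a * X (0 : Fin 3) ^ (nN p q m c i).toNat + b * (X (1 : Fin 3) ^ (eE p q m c i).toNat * X (2 : Fin 3) ^ (lL p q m c i).toNat)) ⟨0, 0, zero_mem _, zero_mem _, by simp⟩ ?_ ?_ hf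
  · rintro f g ⟨a, b, ha, hb, rfl⟩ ⟨a', b', ha', hb', rfl⟩
    exact ⟨_, _, add_mem ha ha', add_mem hb hb', by ring⟩
  intro d r hd
  obtain ⟨n, z⟩ := (weight3_iff d _).1 hd
  dsimp only at n z
  have hh := hjData_of hp hpq hcop hm hnt hc
  have hn0 := (nN_pos hp hpq hcop hm hnt hc i hir).le
  have he0 := (eE_mono (p := p) (q := q) (m := m) hh i hir).1
  have hl0 := (lL_mono (p := p) (q := q) (m := m) hh i hir).1
  rcases gen_split hp hpq hcop hm hnt hc i hi hir _ _ _ n (zmod_dvd.1 z) with h0 | ⟨h1, h2⟩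
  · obtain ⟨t, ht⟩ := Nat.exists_eq_add_of_le h0
    refine ⟨monomial (mkd3 t (d 1) (d 2)) r, 0, mem_weight3 r (weight3_mkd _ _ _ _ ?_ z), zero_mem _, ?_⟩
    · rw [ht] at n; push_cast [Int.toNat_of_nonneg hn0] at n; simp only [Prod.fst_zero]; linarith
    · rw [monomial_mkd3, monomial_eta3, ht]; ring
  · obtain ⟨a, ha⟩ := Nat.exists_eq_add_of_le h1
    obtain ⟨b, hb⟩ := Nat.exists_eq_add_of_le h2
    refine ⟨0, monomial (mkd3 (d 0) a b) r, zero_mem _, mem_weight3 r (weight3_mkd _ _ _ _ ?_ ?_), ?_⟩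
    · rw [ha, hb] at n; push_cast [Int.toNat_of_nonneg he0, Int.toNat_of_nonneg hl0] at n
      simp only [Prod.fst_zero]
      have : nN p q m c i = -(p : ℤ) * eE p q m c i + q * lL p q m c i := rfl
      linarith
    · have hz := zmod_dvd.1 z
      rw [ha, hb] at hz; push_cast [Int.toNat_of_nonneg he0, Int.toNat_of_nonneg hl0] at hz
      apply zmod_dvd.2
      rw [eE_eq] at hz
      have hm' : (m : ℤ) ∣ (m : ℤ) * hjP c i := dvd_mul_right _ _
      have h := dvd_sub hz hm'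
      rw [show lL p q m c i + (m : ℤ) * hjP c i + (a : ℤ) - (lL p q m c i + b) - (m : ℤ) * hjP c i = (a : ℤ) - b by ring] at h
      exact h
    · rw [monomial_mkd3, monomial_eta3, ha, hb]; ring

theorem nN_gen5 (hp : 0 < p) (hpq : p < q) (hcop : Nat.Coprime p q) (hm : 0 < m)
    (hnt : ¬ (q - p ∣ m)) {c : List ℤ} (hc : IsHJDigits p q m c) (i : ℕ) (hi : 1 ≤ i)
    (hir : i ≤ c.length) (f : MvPolynomial (Fin 5) k)
    (hf : f ∈ weightedHomogeneousSubmodule k (wt5 p q m) (nN p q m c i, (0 : ZMod m))) :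
    ∃ (a₀ : MvPolynomial (Fin 5) k) (a : ℕ → ℕ → MvPolynomial (Fin 5) k),
      a₀ ∈ weightedHomogeneousSubmodule k (wt5 p q m) 0 ∧ (∀ e l : ℕ, a e l ∈ weightedHomogeneousSubmodule k (wt5 p q m) 0) ∧
      f = a₀ * X (0 : Fin 5) ^ (nN p q m c i).toNat +
          ∑ e ∈ Finset.range ((eE p q m c i).toNat + 1), ∑ l ∈ Finset.range ((lL p q m c i).toNat + 1),
            a e l * (X (1 : Fin 5) ^ ((eE p q m c i).toNat - e) * X (2 : Fin 5) ^ e *
              X (3 : Fin 5) ^ ((lL p q m c i).toNat - l) * X (4 : Fin 5) ^ l) := by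
  refine hom_induction _ _ (Q := fun f => ∃ (a₀ : MvPolynomial (Fin 5) k) (a : ℕ → ℕ → MvPolynomial (Fin 5) k), a₀ ∈ weightedHomogeneousSubmodule k (wt5 p q m) 0 ∧ (∀ e l : ℕ, a e l ∈ weightedHomogeneousSubmodule k (wt5 p q m) 0) ∧
    f = a₀ * X (0 : Fin 5) ^ (nN p q m c i).toNat + ∑ e ∈ Finset.range ((eE p q m c i).toNat + 1), ∑ l ∈ Finset.range ((lL p q m c i).toNat + 1),
      a e l * (X (1 : Fin 5) ^ ((eE p q m c i).toNat - e) * X (2 : Fin 5) ^ e * X (3 : Fin 5) ^ ((lL p q m c i).toNat - l) * X (4 : Fin 5) ^ l)) ⟨0, fun _ _ => 0, zero_mem _, fun _ _ => zero_mem _, by simp⟩ ?_ ?_ hf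
  · rintro f g ⟨a, b, ha, hb, rfl⟩ ⟨a', b', ha', hb', rfl⟩
    refine ⟨a + a', fun e l => b e l + b' e l, add_mem ha ha', fun e l => add_mem (hb e l) (hb' e l), ?_⟩
    simp only [add_mul, Finset.sum_add_distrib]
    ring
  intro d r hd
  obtain ⟨n, z⟩ := (weight5_iff d _).1 hd
  dsimp only at n z
  have hh := hjData_of hp hpq hcop hm hnt hc
  have hn0 := (nN_pos hp hpq hcop hm hnt hc i hir).le
  have he0 := (eE_mono (p := p) (q := q) (m := m) hh i hir).1
  have hl0 := (lL_mono (p := p) (q := q) (m := m) hh i hir).1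
  have hz : (m : ℤ) ∣ ((d 1 + d 2 : ℕ) : ℤ) - ((d 3 + d 4 : ℕ) : ℤ) := zmod_dvd.1 (by push_cast; exact z)
  rcases gen_split hp hpq hcop hm hnt hc i hi hir (d 0) (d 1 + d 2) (d 3 + d 4) (by push_cast; exact n) hz
    with h0 | ⟨h1, h2⟩
  · obtain ⟨t, ht⟩ := Nat.exists_eq_add_of_le h0
    refine ⟨monomial (mkd5 t (d 1) (d 2) (d 3) (d 4)) r, fun _ _ => 0,
      mem_weight5 r (weight5_mkd _ _ _ _ _ _ ?_ z), fun _ _ => zero_mem _, ?_⟩
    · rw [ht] at n; push_cast [Int.toNat_of_nonneg hn0] at n; simp only [Prod.fst_zero]; linarith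
    · rw [monomial_mkd5, monomial_eta5, ht]; simp only [zero_mul, Finset.sum_const_zero, add_zero]; ring
  · have hnN : nN p q m c i = -(p : ℤ) * eE p q m c i + q * lL p q m c i := rfl
    have hEL : eE p q m c i = lL p q m c i + (m : ℤ) * hjP c i := eE_eq c i
    obtain ⟨E, hE⟩ : ∃ E : ℕ, E = (eE p q m c i).toNat := ⟨_, rfl⟩
    obtain ⟨L, hL⟩ : ∃ L : ℕ, L = (lL p q m c i).toNat := ⟨_, rfl⟩
    have hEz : (E : ℤ) = eE p q m c i := by rw [hE, Int.toNat_of_nonneg he0]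
    have hLz : (L : ℤ) = lL p q m c i := by rw [hL, Int.toNat_of_nonneg hl0]
    rw [← hE, ← hL] at *
    obtain ⟨e, he⟩ : ∃ e, e = min (d 2) E := ⟨_, rfl⟩
    obtain ⟨l, hl⟩ : ∃ l, l = min (d 4) L := ⟨_, rfl⟩
    obtain ⟨A, hA⟩ := Nat.exists_eq_add_of_le (show E - e ≤ d 1 by omega)
    obtain ⟨B, hB⟩ := Nat.exists_eq_add_of_le (show e ≤ d 2 by omega)
    obtain ⟨G, hG⟩ := Nat.exists_eq_add_of_le (show L - l ≤ d 3 by omega)
    obtain ⟨H, hH⟩ := Nat.exists_eq_add_of_le (show l ≤ d 4 by omega)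
    have hw : Finsupp.weight (wt5 p q m) (mkd5 (d 0) A B G H) = 0 := by
      apply weight5_mkd
      · rw [hA, hB, hG, hH] at n
        push_cast [Nat.cast_sub (show e ≤ E by omega), Nat.cast_sub (show l ≤ L by omega)] at n
        simp only [Prod.fst_zero]
        rw [hnN, ← hEz, ← hLz] at n
        linarith
      · rw [hA, hB, hG, hH] at z
        push_cast [Nat.cast_sub (show e ≤ E by omega), Nat.cast_sub (show l ≤ L by omega)] at z
        have : (E : ZMod m) = L := by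
          have := congrArg (fun x : ℤ => (x : ZMod m)) hEL
          rw [← hEz, ← hLz] at this
          push_cast at this
          simpa using this
        simp only [Prod.snd_zero]
        linear_combination z + this
    refine ⟨0, fun e' l' => if e' = e ∧ l' = l then monomial (mkd5 (d 0) A B G H) r else 0,
      zero_mem _, fun e' l' => ?_, ?_⟩
    · dsimp only; split_ifs
      exacts [mem_weight5 r hw, zero_mem _]
    · rw [Finset.sum_eq_single_of_mem e (Finset.mem_range.2 (by omega)) (fun e' _ he' => by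
          simp [he'])]
      rw [Finset.sum_eq_single_of_mem l (Finset.mem_range.2 (by omega)) (fun l' _ hl' => by
          simp [hl'])]
      simp only [and_self, ↓reduceIte]
      rw [monomial_mkd5, monomial_eta5, hA, hB, hG, hH]
      ring

theorem qp_gen5 (p q m : ℕ) (hp : 0 < p) (hpq : p < q) (f : MvPolynomial (Fin 5) k)
    (hf : f ∈ weightedHomogeneousSubmodule k (wt5 p q m) ((q : ℤ) - (p : ℤ), (0 : ZMod m))) :
    ∃ a₁₃ a₁₄ a₂₃ a₂₄ : MvPolynomial (Fin 5) k,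
      a₁₃ ∈ weightedHomogeneousSubmodule k (wt5 p q m) 0 ∧ a₁₄ ∈ weightedHomogeneousSubmodule k (wt5 p q m) 0 ∧ a₂₃ ∈ weightedHomogeneousSubmodule k (wt5 p q m) 0 ∧ a₂₄ ∈ weightedHomogeneousSubmodule k (wt5 p q m) 0 ∧
      f - (a₁₃ * (X (1 : Fin 5) * X 3) + a₁₄ * (X (1 : Fin 5) * X 4) +
          a₂₃ * (X (2 : Fin 5) * X 3) + a₂₄ * (X (2 : Fin 5) * X 4)) ∈
        Ideal.span {X (0 : Fin 5) ^ (q - p) - X 1 * X 4 + X 2 * X 3} := by
  refine hom_induction _ _ (Q := fun f => ∃ a₁₃ a₁₄ a₂₃ a₂₄ : MvPolynomial (Fin 5) k, a₁₃ ∈ weightedHomogeneousSubmodule k (wt5 p q m) 0 ∧ a₁₄ ∈ weightedHomogeneousSubmodule k (wt5 p q m) 0 ∧ a₂₃ ∈ weightedHomogeneousSubmodule k (wt5 p q m) 0 ∧ a₂₄ ∈ weightedHomogeneousSubmodule k (wt5 p q m) 0 ∧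
    f - (a₁₃ * (X (1 : Fin 5) * X 3) + a₁₄ * (X (1 : Fin 5) * X 4) + a₂₃ * (X (2 : Fin 5) * X 3) + a₂₄ * (X (2 : Fin 5) * X 4)) ∈ Ideal.span {(X (0 : Fin 5) ^ (q - p) - X 1 * X 4 + X 2 * X 3 : MvPolynomial (Fin 5) k)}) ⟨0, 0, 0, 0, zero_mem _, zero_mem _, zero_mem _, zero_mem _, by simp⟩ ?_ ?_ hf
  · rintro f g ⟨a, b, c, e, ha, hb, hc, he, h⟩ ⟨a', b', c', e', ha', hb', hc', he', h'⟩
    refine ⟨_, _, _, _, add_mem ha ha', add_mem hb hb', add_mem hc hc', add_mem he he', ?_⟩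
    convert add_mem h h' using 1
    ring
  intro d r hd
  obtain ⟨n, z⟩ := (weight5_iff d _).1 hd
  dsimp only at n z
  by_cases h0 : q - p ≤ d 0
  · obtain ⟨t, ht⟩ := Nat.exists_eq_add_of_le h0
    have hw : Finsupp.weight (wt5 p q m) (mkd5 t (d 1) (d 2) (d 3) (d 4)) = 0 := by
      apply weight5_mkd _ _ _ _ _ _ _ z
      rw [ht] at n; push_cast [Nat.cast_sub hpq.le] at n; simp only [Prod.fst_zero]; linarith
    refine ⟨0, monomial (mkd5 t (d 1) (d 2) (d 3) (d 4)) r, -monomial (mkd5 t (d 1) (d 2) (d 3) (d 4)) r, 0,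
      zero_mem _, mem_weight5 r hw, neg_mem (mem_weight5 r hw), zero_mem _, ?_⟩
    rw [Ideal.mem_span_singleton]
    exact ⟨monomial (mkd5 t (d 1) (d 2) (d 3) (d 4)) r, by rw [monomial_mkd5, monomial_eta5, ht]; ring⟩
  · have h1 : 1 ≤ d 1 + d 2 ∧ 1 ≤ d 3 + d 4 := by
      by_contra hcon
      have hpq' : (p : ℤ) < q := by exact_mod_cast hpq
      have h0' : (d 0 : ℤ) < q - p := by omega
      rcases Nat.eq_zero_or_pos (d 3 + d 4) with h | h
      · have e : ((d 3 : ℤ) + d 4) = 0 := by omega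
        rw [e] at n
        have : (0 : ℤ) ≤ p * ((d 1 : ℤ) + d 2) := by positivity
        linarith
      · have e : ((d 1 : ℤ) + d 2) = 0 := by omega
        rw [e] at n
        have : (q : ℤ) * 1 ≤ q * ((d 3 : ℤ) + d 4) := mul_le_mul_of_nonneg_left (by omega) (by positivity)
        have : (0 : ℤ) ≤ d 0 := by positivity
        nlinarith
    have fin : ∀ (A B G H : ℕ) (u v : Fin 5),
        C r * (X 0 ^ d 0 * X 1 ^ d 1 * X 2 ^ d 2 * X 3 ^ d 3 * X 4 ^ d 4) =
          monomial (mkd5 (d 0) A B G H) r * (X u * X v) →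
        monomial d r - monomial (mkd5 (d 0) A B G H) r * (X u * X v) ∈
          Ideal.span {(X (0 : Fin 5) ^ (q - p) - X 1 * X 4 + X 2 * X 3 : MvPolynomial (Fin 5) k)} := by
      intro A B G H u v h
      rw [monomial_eta5, h, sub_self]; exact zero_mem _
    have hw : ∀ A B G H : ℕ, A + B + 1 = d 1 + d 2 → G + H + 1 = d 3 + d 4 →
        Finsupp.weight (wt5 p q m) (mkd5 (d 0) A B G H) = 0 := by
      intro A B G H e1 e2
      have e1' : ((A : ℤ) + B + 1) = d 1 + d 2 := by exact_mod_cast e1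
      have e2' : ((G : ℤ) + H + 1) = d 3 + d 4 := by exact_mod_cast e2
      apply weight5_mkd
      · simp only [Prod.fst_zero]; linear_combination n - (p : ℤ) * e1' + (q : ℤ) * e2'
      · have f1 := congrArg (fun x : ℤ => (x : ZMod m)) e1'
        have f2 := congrArg (fun x : ℤ => (x : ZMod m)) e2'
        push_cast at f1 f2
        simp only [Prod.snd_zero]; linear_combination z - f1 + f2
    rcases Nat.eq_zero_or_pos (d 1) with a | a <;> rcases Nat.eq_zero_or_pos (d 3) with b | b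
    · refine ⟨0, 0, 0, monomial (mkd5 (d 0) 0 (d 2 - 1) 0 (d 4 - 1)) r, zero_mem _, zero_mem _, zero_mem _,
        mem_weight5 r (hw _ _ _ _ (by omega) (by omega)), ?_⟩
      simp only [zero_mul, zero_add]
      apply fin
      rw [monomial_mkd5, a, b]
      obtain ⟨x, hx⟩ : ∃ x, d 2 = x + 1 := ⟨d 2 - 1, by omega⟩
      obtain ⟨y, hy⟩ : ∃ y, d 4 = y + 1 := ⟨d 4 - 1, by omega⟩
      rw [hx, hy]; simp only [Nat.add_sub_cancel]; ring
    · refine ⟨0, 0, monomial (mkd5 (d 0) 0 (d 2 - 1) (d 3 - 1) (d 4)) r, 0, zero_mem _, zero_mem _,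
        mem_weight5 r (hw _ _ _ _ (by omega) (by omega)), zero_mem _, ?_⟩
      simp only [zero_mul, zero_add, add_zero]
      apply fin
      rw [monomial_mkd5, a]
      obtain ⟨x, hx⟩ : ∃ x, d 2 = x + 1 := ⟨d 2 - 1, by omega⟩
      obtain ⟨y, hy⟩ : ∃ y, d 3 = y + 1 := ⟨d 3 - 1, by omega⟩
      rw [hx, hy]; simp only [Nat.add_sub_cancel]; ring
    · refine ⟨0, monomial (mkd5 (d 0) (d 1 - 1) (d 2) 0 (d 4 - 1)) r, 0, 0, zero_mem _,
        mem_weight5 r (hw _ _ _ _ (by omega) (by omega)), zero_mem _, zero_mem _, ?_⟩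
      simp only [zero_mul, zero_add, add_zero]
      apply fin
      rw [monomial_mkd5, b]
      obtain ⟨x, hx⟩ : ∃ x, d 1 = x + 1 := ⟨d 1 - 1, by omega⟩
      obtain ⟨y, hy⟩ : ∃ y, d 4 = y + 1 := ⟨d 4 - 1, by omega⟩
      rw [hx, hy]; simp only [Nat.add_sub_cancel]; ring
    · refine ⟨monomial (mkd5 (d 0) (d 1 - 1) (d 2) (d 3 - 1) (d 4)) r, 0, 0, 0,
        mem_weight5 r (hw _ _ _ _ (by omega) (by omega)), zero_mem _, zero_mem _, zero_mem _, ?_⟩
      simp only [zero_mul, add_zero]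
      apply fin
      rw [monomial_mkd5]
      obtain ⟨x, hx⟩ : ∃ x, d 1 = x + 1 := ⟨d 1 - 1, by omega⟩
      obtain ⟨y, hy⟩ : ∃ y, d 3 = y + 1 := ⟨d 3 - 1, by omega⟩
      rw [hx, hy]; simp only [Nat.add_sub_cancel]; ring

theorem x13_gen5 (p q m : ℕ) (hp : 0 < p) (hpq : p < q) (f : MvPolynomial (Fin 5) k) :
    (f ∈ weightedHomogeneousSubmodule k (wt5 p q m) (wt5 p q m 1) →
      ∃ a b : MvPolynomial (Fin 5) k, a ∈ weightedHomogeneousSubmodule k (wt5 p q m) 0 ∧ b ∈ weightedHomogeneousSubmodule k (wt5 p q m) 0 ∧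
        f - (a * X (1 : Fin 5) + b * X (2 : Fin 5)) ∈ Ideal.span {X (0 : Fin 5) ^ (q - p) - X 1 * X 4 + X 2 * X 3}) ∧
    (f ∈ weightedHomogeneousSubmodule k (wt5 p q m) (wt5 p q m 3) →
      ∃ a b : MvPolynomial (Fin 5) k, a ∈ weightedHomogeneousSubmodule k (wt5 p q m) 0 ∧ b ∈ weightedHomogeneousSubmodule k (wt5 p q m) 0 ∧
        f - (a * X (3 : Fin 5) + b * X (4 : Fin 5)) ∈ Ideal.span {X (0 : Fin 5) ^ (q - p) - X 1 * X 4 + X 2 * X 3}) := by
  constructor
  · intro hf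
    refine hom_induction _ _ (Q := fun f => ∃ a b : MvPolynomial (Fin 5) k, a ∈ weightedHomogeneousSubmodule k (wt5 p q m) 0 ∧ b ∈ weightedHomogeneousSubmodule k (wt5 p q m) 0 ∧ f - (a * X (1 : Fin 5) + b * X (2 : Fin 5)) ∈ Ideal.span {(X (0 : Fin 5) ^ (q - p) - X 1 * X 4 + X 2 * X 3 : MvPolynomial (Fin 5) k)}) ⟨0, 0, zero_mem _, zero_mem _, by simp⟩ ?_ ?_ hf
    · rintro f g ⟨a, b, ha, hb, h⟩ ⟨a', b', ha', hb', h'⟩
      exact ⟨_, _, add_mem ha ha', add_mem hb hb', by convert add_mem h h' using 1; ring⟩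
    intro d r hd
    obtain ⟨n, z⟩ := (weight5_iff d _).1 hd
    simp [wt5] at n z
    rcases Nat.eq_zero_or_pos (d 1) with a | a
    · have h2 : 1 ≤ d 2 := by
        by_contra h2
        have h2' : d 2 = 0 := by omega
        rw [a, h2'] at n; push_cast at n
        have : (0 : ℤ) ≤ q * ((d 3 : ℤ) + d 4) := by positivity
        have : (0 : ℤ) ≤ d 0 := by positivity
        have : (0 : ℤ) < p := by exact_mod_cast hp
        nlinarith
      obtain ⟨x, hx⟩ := Nat.exists_eq_add_of_le h2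
      refine ⟨0, monomial (mkd5 (d 0) 0 x (d 3) (d 4)) r, zero_mem _,
        mem_weight5 r (weight5_mkd _ _ _ _ _ _ ?_ ?_), ?_⟩
      · rw [a, hx] at n; push_cast at n ⊢; simp only [Prod.fst_zero]; linarith
      · rw [a, hx] at z; push_cast at z ⊢; simp only [Prod.snd_zero]; linear_combination z
      · rw [monomial_mkd5, monomial_eta5, a, hx]
        ring_nf
        simp
    · obtain ⟨x, hx⟩ := Nat.exists_eq_add_of_le a
      refine ⟨monomial (mkd5 (d 0) x (d 2) (d 3) (d 4)) r, 0,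
        mem_weight5 r (weight5_mkd _ _ _ _ _ _ ?_ ?_), zero_mem _, ?_⟩
      · rw [hx] at n; push_cast at n ⊢; simp only [Prod.fst_zero]; linarith
      · rw [hx] at z; push_cast at z ⊢; simp only [Prod.snd_zero]; linear_combination z
      · rw [monomial_mkd5, monomial_eta5, hx]
        ring_nf
        simp
  · intro hf
    refine hom_induction _ _ (Q := fun f => ∃ a b : MvPolynomial (Fin 5) k, a ∈ weightedHomogeneousSubmodule k (wt5 p q m) 0 ∧ b ∈ weightedHomogeneousSubmodule k (wt5 p q m) 0 ∧ f - (a * X (3 : Fin 5) + b * X (4 : Fin 5)) ∈ Ideal.span {(X (0 : Fin 5) ^ (q - p) - X 1 * X 4 + X 2 * X 3 : MvPolynomial (Fin 5) k)}) ⟨0, 0, zero_mem _, zero_mem _, by simp⟩ ?_ ?_ hf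
    · rintro f g ⟨a, b, ha, hb, h⟩ ⟨a', b', ha', hb', h'⟩
      exact ⟨_, _, add_mem ha ha', add_mem hb hb', by convert add_mem h h' using 1; ring⟩
    intro d r hd
    obtain ⟨n, z⟩ := (weight5_iff d _).1 hd
    simp [wt5] at n z
    rcases Nat.eq_zero_or_pos (d 3) with a | a
    · rcases Nat.eq_zero_or_pos (d 4) with b | b
      · -- use the hypersurface equation
        rw [a, b] at n z; push_cast at n z
        have hd0 : q - p ≤ d 0 := by
          have : (0 : ℤ) ≤ p * ((d 1 : ℤ) + d 2) := by positivity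
          omega
        obtain ⟨t, ht⟩ := Nat.exists_eq_add_of_le hd0
        rw [ht] at n; push_cast [Nat.cast_sub hpq.le] at n
        refine ⟨-monomial (mkd5 t (d 1) (d 2 + 1) 0 0) r, monomial (mkd5 t (d 1 + 1) (d 2) 0 0) r,
          neg_mem (mem_weight5 r (weight5_mkd _ _ _ _ _ _ ?_ ?_)),
          mem_weight5 r (weight5_mkd _ _ _ _ _ _ ?_ ?_), ?_⟩
        · push_cast; simp only [Prod.fst_zero]; linarith
        · push_cast; simp only [Prod.snd_zero]; linear_combination z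
        · push_cast; simp only [Prod.fst_zero]; linarith
        · push_cast; simp only [Prod.snd_zero]; linear_combination z
        · rw [Ideal.mem_span_singleton]
          exact ⟨monomial (mkd5 t (d 1) (d 2) 0 0) r, by
            simp only [monomial_mkd5]; rw [monomial_eta5, ht, a, b]; ring⟩
      · obtain ⟨x, hx⟩ := Nat.exists_eq_add_of_le b
        refine ⟨0, monomial (mkd5 (d 0) (d 1) (d 2) 0 x) r, zero_mem _,
          mem_weight5 r (weight5_mkd _ _ _ _ _ _ ?_ ?_), ?_⟩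
        · rw [a, hx] at n; push_cast at n ⊢; simp only [Prod.fst_zero]; linarith
        · rw [a, hx] at z; push_cast at z ⊢; simp only [Prod.snd_zero]; linear_combination z
        · rw [monomial_mkd5, monomial_eta5, a, hx]
          ring_nf
          simp
    · obtain ⟨x, hx⟩ := Nat.exists_eq_add_of_le a
      refine ⟨monomial (mkd5 (d 0) (d 1) (d 2) x (d 4)) r, 0,
        mem_weight5 r (weight5_mkd _ _ _ _ _ _ ?_ ?_), zero_mem _, ?_⟩
      · rw [hx] at n; push_cast at n ⊢; simp only [Prod.fst_zero]; linarith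
      · rw [hx] at z; push_cast at z ⊢; simp only [Prod.snd_zero]; linear_combination z
      · rw [monomial_mkd5, monomial_eta5, hx]
        ring_nf
        simp

end Gen

section Mono

theorem span3_mono {k : Type u} [Field k] (p q m : ℕ) (hpq : p < q)
    (d0 d1 d2 e0 e1 e2 : ℕ) (hn : (e0 : ℤ) - (p : ℤ) * e1 + (q : ℤ) * e2 = (d0 : ℤ) - (p : ℤ) * d1 + (q : ℤ) * d2)
    (hm : 0 < m) (hc : (m : ℤ) ∣ ((d1 : ℤ) - d2) - ((e1 : ℤ) - e2)) :
    ((d1 : ℤ) - d2 = (e1 : ℤ) - e2 →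
      (X (0 : Fin 3) ^ d0 * X (1 : Fin 3) ^ d1 * X (2 : Fin 3) ^ d2 - X (0 : Fin 3) ^ e0 * X (1 : Fin 3) ^ e1 * X (2 : Fin 3) ^ e2 : MvPolynomial (Fin 3) k) ∈ Ideal.span {X (0 : Fin 3) ^ (q - p) - X (1 : Fin 3) * X (2 : Fin 3)}) ∧
    ((e1 : ℤ) - e2 < (d1 : ℤ) - d2 →
      (X (0 : Fin 3) ^ d0 * X (1 : Fin 3) ^ d1 * X (2 : Fin 3) ^ d2 : MvPolynomial (Fin 3) k) ∈ Ideal.span {X (0 : Fin 3) ^ (q - p) - X (1 : Fin 3) * X (2 : Fin 3), X (0 : Fin 3) ^ (m * p) * X (1 : Fin 3) ^ m}) ∧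
    ((X (0 : Fin 3) ^ d0 * X (1 : Fin 3) ^ d1 * X (2 : Fin 3) ^ d2 - X (0 : Fin 3) ^ e0 * X (1 : Fin 3) ^ e1 * X (2 : Fin 3) ^ e2 : MvPolynomial (Fin 3) k) ∈ Ideal.span {X (0 : Fin 3) ^ (q - p) - X (1 : Fin 3) * X (2 : Fin 3), 1 - X (0 : Fin 3) ^ (m * p) * X (1 : Fin 3) ^ m}) := by
  obtain ⟨j, hj⟩ := hc
  refine ⟨fun h => ?_, fun h => ?_, ?_⟩
  · rw [← Ideal.Quotient.mk_eq_mk_iff_sub_mem]
    simp only [map_mul, map_pow]
    apply monomial_eq_of_same_nc _ _ _ p q hpq ?_ hn (by omega)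
    rw [← map_pow, ← map_mul, Ideal.Quotient.mk_eq_mk_iff_sub_mem]
    exact Ideal.subset_span rfl
  · have hj1 : 1 ≤ j := by nlinarith
    obtain ⟨N, rfl⟩ := Int.eq_ofNat_of_zero_le (by omega : 0 ≤ j)
    obtain ⟨M, rfl⟩ : ∃ M, N = M + 1 := ⟨N - 1, by omega⟩
    rw [← Ideal.Quotient.eq_zero_iff_mem]
    simp only [map_mul, map_pow]
    rw [monomial_eq_mul _ _ _ p q hpq ?_ hn (j := M + 1) (m := m) (by rw [hj]; push_cast; ring)]
    · rw [pow_succ, ← map_pow, ← map_pow, ← map_pow, ← map_pow, ← map_pow, ← map_mul (Ideal.Quotient.mk _) (X 0 ^ (m * p))]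
      rw [Ideal.Quotient.eq_zero_iff_mem.2 (Ideal.subset_span (Or.inr rfl) :
        (X (0 : Fin 3) ^ (m * p) * X (1 : Fin 3) ^ m : MvPolynomial (Fin 3) k) ∈ _)]
      simp
    · rw [← map_pow, ← map_mul, Ideal.Quotient.mk_eq_mk_iff_sub_mem]
      exact Ideal.subset_span (Or.inl rfl)
  · rw [← Ideal.Quotient.mk_eq_mk_iff_sub_mem]
    simp only [map_mul, map_pow]
    obtain ⟨φ, hφ⟩ : ∃ φ, φ = Ideal.Quotient.mk (Ideal.span {(X (0 : Fin 3) ^ (q - p) - X (1 : Fin 3) * X (2 : Fin 3) : MvPolynomial (Fin 3) k), 1 - X (0 : Fin 3) ^ (m * p) * X (1 : Fin 3) ^ m}) := ⟨_, rfl⟩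
    rw [← hφ]
    have hrel : φ (X 0) ^ (q - p) = φ (X 1) * φ (X 2) := by
      rw [hφ, ← map_pow, ← map_mul, Ideal.Quotient.mk_eq_mk_iff_sub_mem]
      exact Ideal.subset_span (Or.inl rfl)
    have hu : φ (X 0) ^ (m * p) * φ (X 1) ^ m = 1 := by
      rw [hφ, ← map_pow, ← map_pow, ← map_mul, eq_comm, ← map_one (Ideal.Quotient.mk _),
        Ideal.Quotient.mk_eq_mk_iff_sub_mem]
      exact Ideal.subset_span (Or.inr rfl)
    rcases le_or_gt 0 j with hj0 | hj0
    · obtain ⟨N, rfl⟩ := Int.eq_ofNat_of_zero_le hj0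
      rw [monomial_eq_mul _ _ _ p q hpq hrel hn (j := N) (m := m) (by rw [hj]; push_cast; ring), hu, one_pow,
        mul_one]
    · obtain ⟨N, hN⟩ := Int.eq_ofNat_of_zero_le (by omega : 0 ≤ -j)
      symm
      rw [monomial_eq_mul _ _ _ p q hpq hrel hn.symm (j := N) (m := m) ?_, hu, one_pow, mul_one]
      push_cast; rw [← hN]; linear_combination -hj

theorem small_mono {k : Type u} [Field k] (p q m : ℕ) (hpq : p < q) (hcop : Nat.Coprime p q) (hm : 0 < m)
    (d0 d1 d2 e0 e1 e2 : ℕ) (hn : (e0 : ℤ) - (p : ℤ) * e1 + (q : ℤ) * e2 = (d0 : ℤ) - (p : ℤ) * d1 + (q : ℤ) * d2)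
    (hcd : (m : ℤ) ∣ (d1 : ℤ) - d2) (hce : (m : ℤ) ∣ (e1 : ℤ) - e2)
    (hd0 : d0 < Nat.gcd m (q - p)) (he0 : e0 < Nat.gcd m (q - p)) :
    (d0 = e0 ∧ ((m : ℤ) * ((q - p) / Nat.gcd m (q - p) : ℕ)) ∣ ((d1 : ℤ) - d2) - ((e1 : ℤ) - e2)) ∧
    ((d1 : ℤ) - d2 < (e1 : ℤ) - e2 →
      (X (0 : Fin 3) ^ d0 * X (1 : Fin 3) ^ d1 * X (2 : Fin 3) ^ d2 * (X (1 : Fin 3) ^ (m / Nat.gcd m (q - p) * q) * X (2 : Fin 3) ^ (m / Nat.gcd m (q - p) * p)) : MvPolynomial (Fin 3) k) ∣ X (0 : Fin 3) ^ e0 * X (1 : Fin 3) ^ e1 * X (2 : Fin 3) ^ e2) ∧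
    ((X (0 : Fin 3) ^ e0 * X (1 : Fin 3) ^ e1 * X (2 : Fin 3) ^ e2 - X (0 : Fin 3) ^ d0 * X (1 : Fin 3) ^ d1 * X (2 : Fin 3) ^ d2 : MvPolynomial (Fin 3) k) ∈
      Ideal.span {(1 : MvPolynomial (Fin 3) k) - X (1 : Fin 3) ^ (m / Nat.gcd m (q - p) * q) * X (2 : Fin 3) ^ (m / Nat.gcd m (q - p) * p)}) := by
  obtain ⟨h00, j, hjc, h1, h2⟩ := same_small p q m hpq hcop hm d0 d1 d2 e0 e1 e2 hn (dvd_sub hcd hce) hd0 he0
  generalize m / Nat.gcd m (q - p) * q = A, m / Nat.gcd m (q - p) * p = B at *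
  generalize ((q - p) / Nat.gcd m (q - p) : ℕ) = b at *
  subst h00
  refine ⟨⟨rfl, ⟨-j, by linear_combination -hjc⟩⟩, fun hlt => ?_, ?_⟩
  · have hj : 1 ≤ j := by
      by_contra hcon
      have : j * ((m : ℤ) * b) ≤ 0 := mul_nonpos_of_nonpos_of_nonneg (by omega) (by positivity)
      omega
    obtain ⟨N, rfl⟩ := Int.eq_ofNat_of_zero_le (by omega : 0 ≤ j)
    obtain ⟨M, rfl⟩ : ∃ M, N = M + 1 := ⟨N - 1, by omega⟩
    rw [show e1 = d1 + (M + 1) * A by exact_mod_cast h1, show e2 = d2 + (M + 1) * B by exact_mod_cast h2]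
    exact ⟨X 1 ^ (M * A) * X 2 ^ (M * B), by simp only [pow_add, add_mul, one_mul]; ring⟩
  · rw [← Ideal.Quotient.mk_eq_mk_iff_sub_mem]
    simp only [map_mul, map_pow]
    obtain ⟨φ, hφ⟩ : ∃ φ, φ = Ideal.Quotient.mk (Ideal.span {(1 : MvPolynomial (Fin 3) k) - X (1 : Fin 3) ^ A * X (2 : Fin 3) ^ B}) := ⟨_, rfl⟩
    rw [← hφ]
    have hu : φ (X 1) ^ A * φ (X 2) ^ B = 1 := by
      rw [hφ, ← map_pow, ← map_pow, ← map_mul, eq_comm, ← map_one (Ideal.Quotient.mk _),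
        Ideal.Quotient.mk_eq_mk_iff_sub_mem]
      exact Ideal.subset_span rfl
    have key : ∀ (x1 x2 : ℕ) (N : ℕ), φ (X 0) ^ d0 * φ (X 1) ^ (x1 + N * A) * φ (X 2) ^ (x2 + N * B) =
        φ (X 0) ^ d0 * φ (X 1) ^ x1 * φ (X 2) ^ x2 := by
      intro x1 x2 N
      calc _ = φ (X 0) ^ d0 * φ (X 1) ^ x1 * φ (X 2) ^ x2 * (φ (X 1) ^ A * φ (X 2) ^ B) ^ N := by
            simp only [pow_add, mul_pow, ← pow_mul, mul_comm N]; ring
        _ = _ := by rw [hu, one_pow, mul_one]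
    rcases le_or_gt 0 j with hj0 | hj0
    · obtain ⟨N, rfl⟩ := Int.eq_ofNat_of_zero_le hj0
      rw [show e1 = d1 + N * A by exact_mod_cast h1, show e2 = d2 + N * B by exact_mod_cast h2, key]
    · obtain ⟨N, hN⟩ := Int.eq_ofNat_of_zero_le (by omega : 0 ≤ -j)
      rw [show d1 = e1 + N * A by zify; rw [← hN]; linear_combination -h1,
        show d2 = e2 + N * B by zify; rw [← hN]; linear_combination -h2, key]

end Mono

end Groth.Agent.InvHilbLead
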